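import Cfsg.Agent.Lib.Invol.Goldschmidt.BlockStepBlocks
import Cfsg.Agent.S0217
import Cfsg.Agent.Lib.Signalizer.LocalKBalance

/-!
# The block step of the strongly closed abelian subgroup theorem

Notes: `notes/goldschmidt_spine_helper14.md` (V) and `notes/goldschmidt_G4_helper1.md`.
-/

set_option autoImplicit false
set_option linter.style.haveILetI false

namespace CfsgLib.Invol.Goldschmidt.BlockAux

open Subgroup
open CfsgLib.FTDep (coreCent)
open CfsgLib.Signalizer (elementary_comm elementary_of_le elementary_isPGroup le_of_hyperplanes_le)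

universe u

variable {G : Type u} [Group G] [Finite G] {S : Sylow 2 G} {A : Subgroup G}
  {P : G → Subgroup G → Subgroup G → Prop} {B : Set (Subgroup G × Subgroup G)}

/-- A subgroup containing `N(A)`, the centralisers of the kernels and the cores contains `C(a)`. -/
theorem cover_of (hf : Facts A P) (hB : BlockSystem A P B) {M : Subgroup G}
    (hN : normalizer (A : Set G) ≤ M) (hC : ∀ b ∈ B, centralizer (b.2 : Set G) ≤ M)
    (hO : ∀ a ∈ A, a ≠ 1 → coreCent ({a} : Set G) ≤ M) :
    ∀ a ∈ A, a ≠ 1 → centralizer ({a} : Set G) ≤ M := fun a ha ha1 =>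
  hf.cover a ha ha1 M (hO a ha ha1) hN fun V C hP => by
    obtain ⟨b, hb, -, hbC⟩ := hB.below hP
    exact (centralizer_le hbC).trans (hC b hb)

/-- `W = 1`: the normaliser of the product of the block groups. -/
theorem exists_M_trivial (hs : Setting S A) (hf : Facts A P) (hB : BlockSystem A P B)
    (hD : DeltaTrivial A) :
    ∃ M : Subgroup G, M ≠ ⊤ ∧ normalizer (A : Set G) ≤ M ∧
      ∀ a ∈ A, a ≠ 1 → centralizer ({a} : Set G) ≤ M := by
  haveI := hs.simple
  haveI : Fact (Nat.Prime 2) := ⟨Nat.prime_two⟩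
  set E0 := ⨆ b ∈ B, blockGroup b.1 b.2 with hE0
  have hNA : normalizer (A : Set G) ≤ normalizer (E0 : Set G) := by
    rw [le_normalizer_iff]
    intro n hn x hx
    suffices h : E0 ≤ E0.comap (MulAut.conj n).toMonoidHom from h hx
    rw [hE0]
    refine iSup₂_le fun b hb y hy => ?_
    exact mem_iSup_of_mem (cj n b.1, cj n b.2) (mem_iSup_of_mem (hB.invariant b hb n hn)
      (cj_blockGroup_le n _ _ ⟨y, hy, rfl⟩))
  have hC : ∀ b ∈ B, centralizer (b.2 : Set G) ≤ normalizer (E0 : Set G) := by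
    intro b hb
    rw [le_normalizer_iff]
    intro g hg x hx
    suffices h : E0 ≤ E0.comap (MulAut.conj g).toMonoidHom from h hx
    rw [hE0]
    refine iSup₂_le fun l hl y hy => ?_
    exact mem_iSup_of_mem l (mem_iSup_of_mem hl
      ((mem_normalizer_iff.mp (centralizer_kernel_le hs hf hB hD hl hb hg) y).mp hy))
  refine ⟨normalizer (E0 : Set G), fun htop => ?_, hNA,
    cover_of hf hB hNA hC fun a ha ha1 => ?_⟩
  · haveI : E0.Normal := normalizer_eq_top_iff.mp htop
    obtain ⟨b₁, h₁, b₂, h₂, -, -, h12, -, -⟩ := hB.three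
    have hne : ∀ b ∈ B, blockGroup b.1 b.2 ≠ ⊥ := by
      intro b hb h
      obtain ⟨hC, hP⟩ := hB.stable b hb
      obtain ⟨⟨c, hc⟩, hc0⟩ := (b.2).ne_bot_iff_exists_ne_one.mp hC
      have h4 := hf.four (hP c hc fun e => hc0 (Subtype.ext e))
      rw [eq_bot_iff.mpr ((le_blockGroup b.1 b.2).trans h.le), card_bot] at h4
      omega
    rcases (inferInstance : E0.Normal).eq_bot_or_eq_top with h | h
    · exact hne b₁ h₁ (le_bot_iff.mp ((le_iSup₂_of_le b₁ h₁ le_rfl).trans (hE0 ▸ h).le))
    have hK : ∀ b ∈ B, blockGroup b.1 b.2 = ⊤ := by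
      intro b hb
      have hn : (blockGroup b.1 b.2).Normal := by
        refine normalizer_eq_top_iff.mp (top_le_iff.mp ((hE0 ▸ h).ge.trans (iSup₂_le fun l hl => ?_)))
        by_cases hl' : l = b
        · exact hl' ▸ le_normalizer
        · exact (blockGroup_commute hs hf hB hD hl hb hl').trans (centralizer_le_normalizer _)
      exact hn.eq_bot_or_eq_top.resolve_left (hne b hb)
    apply hs.noncomm
    refine ⟨⟨fun x y => Subtype.ext ?_⟩⟩
    exact (mem_centralizer_iff.mp (blockGroup_commute hs hf hB hD h₁ h₂ h12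
      ((hK b₁ h₁).ge (mem_top (x : G)))) (y : G) ((hK b₂ h₂).ge (mem_top _))).symm
  · -- the core at `a`
    have hz : centralizer ((zpowers a : Subgroup G) : Set G) = centralizer ({a} : Set G) := by
      rw [zpowers_eq_closure, centralizer_closure]
    have hAC : A ≤ centralizer ({a} : Set G) :=
      hz ▸ le_centralizer_of_le hs (zpowers_le.mpr ha)
    refine le_of_hyperplanes_le hs.elem
      (fun h => (Nat.not_even_iff_odd.mpr (FTDep.coreCent_odd _)) (even_iff_two_dvd.mpr h))
      (hAC.trans (FTDep.coreCent_norm _)) fun H hH hHi x hx => ?_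
    by_cases hl : ∃ l ∈ B, l.2 ≤ H
    · obtain ⟨l, hl, hlH⟩ := hl
      exact hC l hl (centralizer_le hlH hx.2)
    push Not at hl
    refine hNA (centralizer_le_normalizer _ (mem_centralizer_iff.mpr fun e he => ?_))
    exact hyperplane_commute hs hf hB hD (U := zpowers a) (zpowers_le.mpr ha)
      (fun h => ha1 (zpowers_eq_bot.mp h)) hH hHi (coreCent_congr hz.symm hx.1) hx.2 he
      fun l hl' hlH _ => absurd hlH (hl l hl')

/-- `W ≠ 1`: the normaliser of `W`. -/
theorem exists_M_nontrivial (hs : Setting S A) (hf : Facts A P) (hB : BlockSystem A P B)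
    (hD : ¬ DeltaTrivial A) :
    ∃ M : Subgroup G, M ≠ ⊤ ∧ normalizer (A : Set G) ≤ M ∧
      ∀ a ∈ A, a ≠ 1 → centralizer ({a} : Set G) ≤ M := by
  haveI := hs.simple
  haveI : Fact (Nat.Prime 2) := ⟨Nat.prime_two⟩
  unfold DeltaTrivial at hD
  push Not at hD
  obtain ⟨D₀, hD₀A, hD₀8, hD₀⟩ := hD
  have hAcard := card_A hf hB
  have hbal := balance hs hf
  obtain ⟨⟨hθC, hθp, hθi, hθb⟩, hθs⟩ :=
    CfsgLib.InvolGoldschmidt.G4.gen_isSolvableSignalizerFunctor hbal hs.elem
      (by simpa using hAcard) fun a _ _ => coreCent_solvable ({a} : Set G)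
  obtain ⟨hodd, -⟩ := Cfsg.Agent.S0217.result A (fun _ hx _ hy => elementary_comm hs.elem hx hy)
    hs.elem.2 ((by norm_num : (2 : ℕ) ^ 3 ≤ 32).trans hAcard) _ hθC hθp hθi hθs hθb
  set W := ⨆ D : {D : Subgroup G // D ≤ A ∧ Cfsg.IsElementaryAbelian 2 D ∧ 2 ^ 3 ≤ Nat.card ↥D},
    Cfsg.signalizerDelta 2 (D : Subgroup G) with hW
  have hWle : W ≤ ⨆ a : {a : G // a ∈ A ∧ a ≠ 1}, Cfsg.Agent.S1299.gen 2 A (zpowers (a : G)) := by
    refine iSup_le fun D => le_of_hyperplanes_le hs.elem
      (Techniques.KBalanceFunctor.not_dvd_delta (k := 3) (by norm_num) D.2.2.2)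
      (Techniques.le_normalizer_delta (le_centralizer_of_le hs D.2.1)) fun H hH hHi x hx => ?_
    obtain ⟨⟨v, hv⟩, hv0⟩ := H.ne_bot_iff_exists_ne_one.mp (fun e => by
      rw [e, relIndex_bot_left] at hHi; omega)
    exact le_iSup (fun a : {a : G // a ∈ A ∧ a ≠ 1} => Cfsg.Agent.S1299.gen 2 A (zpowers (a : G)))
      ⟨v, hH hv, fun e => hv0 (Subtype.ext e)⟩ (Cfsg.Agent.S1299.delta_le_gen (zpowers_le.mpr hv) hH
        hHi (CfsgLib.InvolGoldschmidt.G4.delta_inf_centralizer_le_wrt hbal hs.elem D.2.1 D.2.2.2 hH hx))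
  have hNA : normalizer (A : Set G) ≤ normalizer (W : Set G) := by
    rw [le_normalizer_iff]
    intro n hn x hx
    suffices h : W ≤ W.comap (MulAut.conj n).toMonoidHom from h hx
    rw [hW]
    refine iSup_le fun D y hy => ?_
    have hDA : cj n D.1 ≤ A := by
      rintro _ ⟨z, hz, rfl⟩
      exact (mem_normalizer_iff.mp hn z).mp (D.2.1 hz)
    refine mem_comap.mpr (mem_iSup_of_mem ⟨cj n D.1, hDA, elementary_of_le hs.elem hDA,
      by rw [card_map_of_injective (MulAut.conj n).injective]; exact D.2.2.2⟩ ?_)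
    refine Techniques.mem_delta_iff.mpr ?_
    rintro _ ⟨d, hd, rfl⟩ hd1
    exact CfsgLib.Signalizer.mem_centralizerPPrimeCore_map (MulAut.conj n)
      (Techniques.mem_delta_iff.mp hy d hd fun e => hd1 (by rw [e]; exact map_one _))
  -- the centralisers of the subgroups of order at least 16
  have hE : ∀ E : Subgroup G, E ≤ A → 16 ≤ Nat.card E →
      centralizer (E : Set G) ≤ normalizer (W : Set G) := by
    intro E hEA hE16
    have heq : W = ⨆ D : {D : Subgroup G // D ≤ E ∧ Cfsg.IsElementaryAbelian 2 D ∧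
        2 ^ 3 ≤ Nat.card ↥D}, Cfsg.signalizerDelta 2 (D : Subgroup G) :=
      le_antisymm
        (iSup_le fun D => Techniques.KBalanceFunctor.delta_le (by norm_num) hs.elem hbal D.2.1
          D.2.2.2 hEA (by simpa using hE16))
        (iSup_le fun D => le_iSup (fun D : {D : Subgroup G //
          D ≤ A ∧ Cfsg.IsElementaryAbelian 2 D ∧ 2 ^ 3 ≤ Nat.card ↥D} =>
            Cfsg.signalizerDelta 2 (D : Subgroup G)) ⟨D, D.2.1.trans hEA, D.2.2⟩)
    rw [le_normalizer_iff]
    intro g hg x hx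
    suffices h : W ≤ W.comap (MulAut.conj g).toMonoidHom from h hx
    rw [heq]
    refine iSup_le fun D y hy => mem_comap.mpr (mem_iSup_of_mem D ?_)
    exact (mem_normalizer_iff.mp (Techniques.le_normalizer_delta (A := centralizer (E : Set G))
      (centralizer_le D.2.1) hg) y).mp hy
  refine ⟨normalizer (W : Set G), fun htop => ?_, hNA,
    cover_of hf hB hNA (fun b hb => hE _ (kernel_le hB hb) (hB.rank b hb)) fun a ha _ => ?_⟩
  · haveI : W.Normal := normalizer_eq_top_iff.mp htop
    rcases (inferInstance : W.Normal).eq_bot_or_eq_top with h | h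
    · refine hD₀ (le_bot_iff.mp ?_)
      rw [← h, hW]
      exact le_iSup (fun D : {D : Subgroup G //
        D ≤ A ∧ Cfsg.IsElementaryAbelian 2 D ∧ 2 ^ 3 ≤ Nat.card ↥D} =>
          Cfsg.signalizerDelta 2 (D : Subgroup G))
        ⟨D₀, hD₀A, elementary_of_le hs.elem hD₀A, hD₀8⟩
    · refine hodd ?_
      have h2 : (⨆ a : {a : G // a ∈ A ∧ a ≠ 1},
          Cfsg.Agent.S1299.gen 2 A (zpowers (a : G))) = ⊤ := top_le_iff.mp (h ▸ hWle)
      rw [h2, Subgroup.card_top]
      obtain ⟨n, hn⟩ := (elementary_isPGroup hs.elem).exists_card_eq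
      have hn0 : n ≠ 0 := fun h0 => by rw [hn, h0] at hAcard; norm_num at hAcard
      exact dvd_trans (hn ▸ dvd_pow_self 2 hn0) (card_subgroup_dvd_card A)
  · have hAC : A ≤ centralizer ({a} : Set G) := fun x hx =>
      mem_centralizer_singleton_iff.mpr (elementary_comm hs.elem hx ha)
    refine le_of_hyperplanes_le hs.elem
      (fun h => (Nat.not_even_iff_odd.mpr (FTDep.coreCent_odd _)) (even_iff_two_dvd.mpr h))
      (hAC.trans (FTDep.coreCent_norm _)) fun H hH hHi x hx => hE H hH ?_ hx.2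
    have h4 := relIndex_mul_relIndex ⊥ H A bot_le hH
    rw [relIndex_bot_left, relIndex_bot_left] at h4
    have := Nat.mul_le_mul_left (Nat.card H) hHi
    omega

end CfsgLib.Invol.Goldschmidt.BlockAux

namespace CfsgLib.Invol.Goldschmidt

universe u

/-- Slice V: three-balance and weights. -/
theorem blockStep : BlockStep.{u} := by
  intro G _ _ S A P hs hf B hB
  by_cases hD : BlockAux.DeltaTrivial A
  · exact BlockAux.exists_M_trivial hs hf hB hD
  · exact BlockAux.exists_M_nontrivial hs hf hB hD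

end CfsgLib.Invol.Goldschmidt
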