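import Cfsg.Agent.Lib.Invol.Goldschmidt.Spine

/-!
Owner: helper14. The remaining slices of S1169: no moved component, and the reduction to `Setting`.
-/

set_option autoImplicit false

namespace CfsgLib.Invol.Goldschmidt

open Subgroup

universe u

/-- Slice IV: no component of a centralizer is moved. -/
def NoPair : Prop :=
  ∀ (G : Type u) [Group G] [Finite G] (S : Sylow 2 G) (A : Subgroup G)
    (P : G → Subgroup G → Subgroup G → Prop), Setting S A → Facts A P → 8 ≤ Nat.card A →
    (∀ a V C, ¬ P a V C) → ∃ M : Subgroup G, M ≠ ⊤ ∧ normalizer (A : Set G) ≤ M ∧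
      ∀ a ∈ A, a ≠ 1 → centralizer ({a} : Set G) ≤ M

/-- A minimal counterexample does not exist. -/
def Settled : Prop :=
  ∀ (G : Type u) [Group G] [Finite G] (S : Sylow 2 G) (A : Subgroup G), Smaller G → Setting S A → False

/-- S1169 in the form proved by induction. -/
def GoldStructure : Prop :=
  ∀ (G : Type u) [Group G] [Finite G] [IsSimpleGroup G], ¬ IsMulCommutative G →
    ∀ (S : Sylow 2 G) (A : Subgroup G), A ≠ ⊥ → IsMulCommutative A →
      Cfsg.IsStronglyClosed A (S : Subgroup G) → GoldType G

/-- The slice: the reduction to a minimal counterexample. -/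
def ReductionStep : Prop :=
  Walter.StructureTheorem.{u} → Settled.{u} → GoldStructure.{u}

end CfsgLib.Invol.Goldschmidt
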