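import Cfsg.Agent.Lib.Invol.Goldschmidt.Dichotomy
import Cfsg.Agent.Lib.Invol.Goldschmidt.BlockStep
import Cfsg.Agent.Lib.Invol.Goldschmidt.Cases
import Cfsg.Agent.Lib.Invol.Goldschmidt.RankTwoCase.Main
import Cfsg.Agent.Lib.Invol.Goldschmidt.Sections.LocalWalter
import Cfsg.Agent.Lib.Invol.Goldschmidt.Sections.Point
import Cfsg.Agent.Lib.Invol.AschCrit.MainProof
import Cfsg.Agent.Lib.Invol.AschCrit.Dep.StronglyClosed
import Cfsg.Agent.Lib.SThreeFree.Hyps

/-!
Owner: helper18. S1169: the assembly of the slices.

* `false_of_proper`: the end of all cases (S1174).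
* `settled`: a minimal counterexample does not exist, from the facts, the case `|A| = 8` and `NoPair`.
* `goldschmidtInput_of_steps`: S1169, from the reduction and Walter's theorem in addition.
-/

set_option autoImplicit false
set_option linter.unusedSectionVars false

namespace CfsgLib.Invol.Goldschmidt

open Subgroup

universe u

/-- Slice I: the facts on a minimal counterexample. -/
def FactsStep : Prop :=
  ∀ (G : Type u) [Group G] [Finite G] (S : Sylow 2 G) (A : Subgroup G), Smaller G → Setting S A →
    Facts A (Point.Pair A)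

/-- Slice III: `|A| = 8` with a moved component. -/
def EightStep : Prop :=
  ∀ (G : Type u) [Group G] [Finite G] (S : Sylow 2 G) (A : Subgroup G),
    Smaller G → Setting S A → Facts A (Point.Pair A) → Nat.card A = 8 →
    (∃ a V C, Point.Pair A a V C) → False

variable {G : Type u} [Group G] [Finite G] {S : Sylow 2 G} {A : Subgroup G}

/-- A proper subgroup containing the centralisers of the nonidentity elements of `A` gives a contradiction. -/
theorem false_of_proper (hS : Setting S A) {M : Subgroup G} (hM : M ≠ ⊤)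
    (hC : ∀ a ∈ A, a ≠ 1 → centralizer ({a} : Set G) ≤ M) : False := by
  haveI := hS.simple
  have hne : A ≠ ⊥ := fun e => by
    have := hS.four
    rw [e, card_bot] at this
    omega
  obtain ⟨H, hH⟩ := CfsgLib.AschCrit.stronglyEmbedded_of_stronglyClosed CfsgLib.AschCrit.mainProved S A hne
    hS.closed (ne_top_of_le_ne_top hM (iSup_le fun t =>
      hC t t.2.1 fun e => by rw [← orderOf_eq_one_iff, t.2.2] at e; omega))
  exact hS.noSE H hH

theorem card_cases (hS : Setting S A) : Nat.card A = 4 ∨ 8 ≤ Nat.card A := by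
  haveI : Fact (Nat.Prime 2) := ⟨Nat.prime_two⟩
  obtain ⟨k, hk⟩ := (S.2.to_le hS.closed.1).exists_card_eq
  have h4 := hS.four
  rw [hk] at h4 ⊢
  rcases k with _ | _ | _ | k
  · simp at h4
  · simp at h4
  · exact Or.inl rfl
  · exact Or.inr (by rw [show k + 1 + 1 + 1 = k + 3 by ring, pow_add]; exact Nat.le_mul_of_pos_left _ (by positivity))

/-- **A minimal counterexample does not exist.** -/
theorem settled (hfacts : FactsStep.{u}) (h8 : EightStep.{u}) (hno : NoPair.{u}) : Settled.{u} := by
  intro G _ _ S A hsm hS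
  rcases card_cases hS with h4 | h8'
  · exact rankTwo CfsgLib.AschCrit.mainProved G S A hsm hS h4
  have hP := hfacts G S A hsm hS
  by_cases hpair : ∃ a V C, Point.Pair A a V C
  · rcases h8'.eq_or_lt with h | h
    · exact h8 G S A hsm hS hP h.symm hpair
    · obtain ⟨B, hB⟩ := dichotomy G S A _ hS hP h hpair
      obtain ⟨M, hM, -, hC⟩ := blockStep G S A _ hS hP B hB
      exact false_of_proper hS hM hC
  · push Not at hpair
    obtain ⟨M, hM, -, hC⟩ := hno G S A _ hS hP h8' hpair
    exact false_of_proper hS hM hC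

/-- The types of the list have abelian Sylow 2-subgroups or a strongly embedded subgroup. -/
theorem GoldType.conclusion [IsSimpleGroup G] (h : GoldType G) (S : Sylow 2 G) :
    IsMulCommutative (S : Subgroup G) ∨ ∃ H : Subgroup G, Cfsg.IsStronglyEmbedded H := by
  rcases h with (h | h | h) | ⟨-, hH⟩
  · exact Or.inr ⟨_, (h.elemCent S).stronglyEmbedded⟩
  · exact Or.inl (Walter.Sections.sylow_comm_pair h.pslData S)
  · exact Or.inl (h.2.1 S)
  · exact Or.inr hH

/-- **S1169** from the slices. -/
theorem goldschmidtInput_of_steps (hW : Walter.StructureTheorem.{u}) (hred : ReductionStep.{u})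
    (hfacts : FactsStep.{u}) (h8 : EightStep.{u}) (hno : NoPair.{u}) :
    CfsgLib.SThreeFree.GoldschmidtInput.{u} := by
  intro G _ _ _ S A hA hAc hcl
  by_cases hna : IsMulCommutative G
  · exact Or.inl ⟨⟨fun a b => Subtype.ext (hna.is_comm.comm (a : G) b)⟩⟩
  exact (hred hW (settled hfacts h8 hno) G hna S A hA hAc hcl).conclusion S

end CfsgLib.Invol.Goldschmidt
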