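import Cfsg.Agent.Lib.Invol.Goldschmidt.BlockStepWeight

/-!
# The block groups when `W = 1`

They are perfect, commute in pairs and centralise the cores at the elements of their kernels.
-/

set_option autoImplicit false
set_option linter.style.haveILetI false

namespace CfsgLib.Invol.Goldschmidt.BlockAux

open Subgroup
open CfsgLib.FTDep (coreCent)
open CfsgLib.Signalizer (elementary_comm)
open scoped commutatorElement

universe u

variable {G : Type u} [Group G] [Finite G] {S : Sylow 2 G} {A : Subgroup G}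
  {P : G → Subgroup G → Subgroup G → Prop} {B : Set (Subgroup G × Subgroup G)}
  {i j : Subgroup G × Subgroup G}

omit [Finite G] in
/-- `V ≤` its block group. -/
theorem le_blockGroup (V C : Subgroup G) : V ≤ blockGroup V C := fun v hv =>
  subset_closure ⟨1, one_mem _, v, hv, by simp⟩

omit [Finite G] in
/-- `C(C)` normalises the block group. -/
theorem centralizer_le_normalizer_blockGroup (V C : Subgroup G) :
    centralizer (C : Set G) ≤ normalizer (blockGroup V C : Set G) := by
  have key : ∀ y ∈ centralizer (C : Set G),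
      blockGroup V C ≤ (blockGroup V C).comap (MulAut.conj y).toMonoidHom := fun y hy => by
    rw [blockGroup, closure_le]
    rintro _ ⟨g, hg, v, hv, rfl⟩
    refine mem_comap.mpr (subset_closure ⟨y * g, mul_mem hy hg, v, hv, ?_⟩)
    show y * (g * v * g⁻¹) * y⁻¹ = y * g * v * (y * g)⁻¹
    group
  rw [le_normalizer_iff]
  intro y hy x hx
  exact key y hy hx

omit [Finite G] in
/-- The block group centralises what `V` centralises and `C(C)` normalises. -/
theorem blockGroup_le_centralizer {V C X : Subgroup G} (hVX : V ≤ centralizer (X : Set G))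
    (hn : centralizer (C : Set G) ≤ normalizer (X : Set G)) :
    blockGroup V C ≤ centralizer (X : Set G) := by
  rw [blockGroup, closure_le]
  rintro _ ⟨g, hg, v, hv, rfl⟩
  refine mem_centralizer_iff.mpr fun z hz => ?_
  have hz' : g⁻¹ * z * g ∈ X := by
    have := (mem_normalizer_iff.mp (hn (inv_mem hg)) z).mp hz
    rwa [inv_inv] at this
  have h := mem_centralizer_iff.mp (hVX hv) _ hz'
  calc z * (g * v * g⁻¹) = g * (g⁻¹ * z * g * v) * g⁻¹ := by group
    _ = g * (v * (g⁻¹ * z * g)) * g⁻¹ := by rw [h]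
    _ = g * v * g⁻¹ * z := by group

omit [Finite G] in
/-- Conjugation of block groups. -/
theorem cj_blockGroup_le (n : G) (V C : Subgroup G) :
    cj n (blockGroup V C) ≤ blockGroup (cj n V) (cj n C) := by
  rw [blockGroup, cj, MonoidHom.map_closure, closure_le]
  rintro _ ⟨_, ⟨g, hg, v, hv, rfl⟩, rfl⟩
  refine subset_closure ⟨n * g * n⁻¹, mem_centralizer_iff.mpr ?_, n * v * n⁻¹,
    ⟨v, hv, rfl⟩, ?_⟩
  · rintro _ ⟨c, hc, rfl⟩
    have h := mem_centralizer_iff.mp hg c hc
    show n * c * n⁻¹ * (n * g * n⁻¹) = n * g * n⁻¹ * (n * c * n⁻¹)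
    calc n * c * n⁻¹ * (n * g * n⁻¹) = n * (c * g) * n⁻¹ := by group
      _ = n * (g * c) * n⁻¹ := by rw [h]
      _ = _ := by group
  · show n * (g * v * g⁻¹) * n⁻¹ = n * g * n⁻¹ * (n * v * n⁻¹) * (n * g * n⁻¹)⁻¹
    group

/-- Two distinct blocks have a common point in their kernels. -/
theorem exists_common (hB : BlockSystem A P B) (hi : i ∈ B) (hj : j ∈ B) :
    ∃ c ∈ i.2, c ∈ j.2 ∧ c ≠ 1 := by
  obtain ⟨⟨c, hci, hcj⟩, hc0⟩ := (i.2 ⊓ j.2).ne_bot_iff_exists_ne_one.mp (hB.meet i hi j hj)
  exact ⟨c, hci, hcj, fun e => hc0 (Subtype.ext e)⟩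

/-- `A` centralises `O(C(C_i))`. -/
theorem A_centralizes_core (hs : Setting S A) (hf : Facts A P) (hB : BlockSystem A P B)
    (hD : DeltaTrivial A) (hi : i ∈ B) :
    coreCent (i.2 : Set G) ≤ centralizer (A : Set G) := by
  refine centralizes_core hs hf hB hD (kernel_le hB hi) (hB.stable i hi).1 le_rfl
    fun H hH hAH l hl hlH hiH => ?_
  by_cases hne : i = l
  · exact hne ▸ le_rfl
  · exact absurd ((kernels_sup hB hi hl hne).trans (sup_le hiH hlH)) hAH

/-- The block group centralises the core at each point of its kernel. -/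
theorem blockGroup_centralizes_core (hs : Setting S A) (hf : Facts A P) (hB : BlockSystem A P B)
    (hD : DeltaTrivial A) (hi : i ∈ B) {c : G} (hc : c ∈ i.2) (hc1 : c ≠ 1) :
    blockGroup i.1 i.2 ≤ centralizer (coreCent ({c} : Set G) : Set G) := by
  have hz : centralizer ((zpowers c : Subgroup G) : Set G) = centralizer ({c} : Set G) := by
    rw [zpowers_eq_closure, centralizer_closure]
  have hV : coreCent ((zpowers c : Subgroup G) : Set G) ≤ centralizer (i.1 : Set G) := by
    refine centralizes_core hs hf hB hD (zpowers_le.mpr (kernel_le hB hi hc))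
      (fun e => hc1 (zpowers_eq_bot.mp e)) (image_le hB hi) fun H _ hVH l hl hlH _ => ?_
    by_cases hne : l = i
    · exact hne ▸ zpowers_le.mpr hc
    · exact absurd ((hB.orth l hl i hi hne).trans hlH) hVH
  refine blockGroup_le_centralizer (le_centralizer_iff.mp ((coreCent_congr hz.symm).trans hV)) ?_
  exact (centralizer_le (Set.singleton_subset_iff.mpr hc)).trans (FTDep.coreCent_norm _)

/-- The block group is perfect. -/
theorem blockGroup_perfect (hs : Setting S A) (hf : Facts A P) (hB : BlockSystem A P B)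
    (hD : DeltaTrivial A) (hi : i ∈ B) :
    ⁅blockGroup i.1 i.2, blockGroup i.1 i.2⁆ = blockGroup i.1 i.2 := by
  set K := blockGroup i.1 i.2 with hK
  set O := coreCent (i.2 : Set G) with hO
  have hKO : K ≤ centralizer (O : Set G) :=
    blockGroup_le_centralizer
      ((le_centralizer_iff.mp (A_centralizes_core hs hf hB hD hi)).trans' (image_le hB hi))
      (FTDep.coreCent_norm _)
  have hle : ⁅K, K⁆ ≤ K := commutator_le.mpr fun _ hx _ hy =>
    mul_mem (mul_mem (mul_mem hx hy) (inv_mem hx)) (inv_mem hy)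
  refine le_antisymm hle ?_
  rw [hK, blockGroup, closure_le]
  rintro _ ⟨g, hg, v, hv, rfl⟩
  rw [← blockGroup, ← hK, SetLike.mem_coe]
  have hxK : g * v * g⁻¹ ∈ K := subset_closure ⟨g, hg, v, hv, rfl⟩
  obtain ⟨y, hy, o, ho, hyo⟩ := (CfsgLib.Core.mem_sup_iff_mul
    ((hle.trans hKO).trans (centralizer_le_normalizer _))).mp
      (hf.perfect (hB.stable i hi) hxK)
  have hco : Commute y o := (mem_centralizer_iff.mp (hKO (hle hy)) o ho).symm
  have h1 : o ^ 2 ∈ ⁅K, K⁆ := by
    have hsq : (g * v * g⁻¹) * (g * v * g⁻¹) = 1 := by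
      calc (g * v * g⁻¹) * (g * v * g⁻¹) = g * (v * v) * g⁻¹ := by group
        _ = 1 := by rw [sq_eq hs (image_le hB hi hv)]; group
    rw [hyo] at hsq
    have h4 : o ^ 2 = (y * y)⁻¹ := eq_inv_of_mul_eq_one_right (by
      rw [pow_two]
      calc y * y * (o * o) = y * (y * o) * o := by group
        _ = y * (o * y) * o := by rw [hco.eq]
        _ = y * o * (y * o) := by group
        _ = 1 := hsq)
    rw [h4]
    exact inv_mem (mul_mem hy hy)
  obtain ⟨m, hm⟩ := (FTDep.coreCent_odd (i.2 : Set G)).of_dvd_nat (O.orderOf_dvd_natCard ho)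
  have h5 : o = (o ^ 2) ^ (m + 1) := by
    rw [← pow_mul, show 2 * (m + 1) = 2 * m + 1 + 1 by omega, pow_succ, ← hm,
      pow_orderOf_eq_one, one_mul]
  rw [hyo]
  exact mul_mem hy (h5 ▸ pow_mem h1 _)

/-- Distinct block groups commute. -/
theorem blockGroup_commute (hs : Setting S A) (hf : Facts A P) (hB : BlockSystem A P B)
    (hD : DeltaTrivial A) (hi : i ∈ B) (hj : j ∈ B) (hne : i ≠ j) :
    blockGroup i.1 i.2 ≤ centralizer (blockGroup j.1 j.2 : Set G) := by
  obtain ⟨c, hci, hcj, hc1⟩ := exists_common hB hi hj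
  have hne' : i.2 ≠ j.2 := fun h => hne (block_kernel_inj hf hB hi hj h)
  rw [← commutator_eq_bot_iff_le_centralizer]
  refine commute_of_perfect (blockGroup_perfect hs hf hB hD hi) ?_
  rw [commutator_eq_bot_iff_le_centralizer]
  exact (hf.commute (hB.stable i hi) (hB.stable j hj) hne' c hci hcj hc1).trans
    (le_centralizer_iff.mp (blockGroup_centralizes_core hs hf hB hD hi hci hc1))

/-- `C(C_j)` normalises every block group. -/
theorem centralizer_kernel_le (hs : Setting S A) (hf : Facts A P) (hB : BlockSystem A P B)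
    (hD : DeltaTrivial A) (hi : i ∈ B) (hj : j ∈ B) :
    centralizer (j.2 : Set G) ≤ normalizer (blockGroup i.1 i.2 : Set G) := by
  by_cases hne : i = j
  · exact hne ▸ centralizer_le_normalizer_blockGroup _ _
  obtain ⟨c, hci, hcj, hc1⟩ := exists_common hB hi hj
  have hsol : Group.IsSolvable (coreCent ({c} : Set G)) := coreCent_solvable _
  rw [le_normalizer_iff]
  intro g hg x hx
  have h1 : g ∈ centralizer ({c} : Set G) := centralizer_le (Set.singleton_subset_iff.mpr hcj) hg
  have h2 : g ∈ centralizer (i.1 : Set G) :=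
    centralizer_le (SetLike.coe_subset_coe.mpr (hB.orth j hj i hi (Ne.symm hne))) hg
  have hle := perfect_le (L := cj g (blockGroup i.1 i.2))
    (by rw [cj, ← map_commutator, blockGroup_perfect hs hf hB hD hi])
    (hf.fix (hB.stable i hi) c hci hc1 g h1 h2)
    (blockGroup_centralizes_core hs hf hB hD hi hci hc1)
  exact hle ⟨x, hx, rfl⟩

end CfsgLib.Invol.Goldschmidt.BlockAux
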