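import Cfsg.Agent.Lib.FTDep.CoreSeparated
import Cfsg.Prelude.Def_TwoFusion
import Cfsg.Prelude.Def_Involutions
import Cfsg.Prelude.Def_LocalEven
import Cfsg.Agent.Lib.Recog.Walter.Defs

/-!
Owner: helper14. Interfaces of the proof of S1169 (see notes/goldschmidt_spine_helper14.md).

`P a V C` stands for: a component of `C(a)/O(C(a))` is moved by `A`, meets `A` in `V` and has kernel `C`
in `A`. All the facts about those components which the slices use are the fields of `Facts`.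
-/

set_option autoImplicit false

namespace CfsgLib.Invol.Goldschmidt

open Subgroup
open CfsgLib.FTDep (coreCent)

universe u

variable {G : Type u} [Group G] [Finite G]

/-- The conjugate `g X g⁻¹`. -/
abbrev cj (g : G) (X : Subgroup G) : Subgroup G := X.map (MulAut.conj g).toMonoidHom

/-- A minimal counterexample to S1169, with `A` elementary and irreducible under its normalizer. -/
structure Setting (S : Sylow 2 G) (A : Subgroup G) : Prop where
  simple : IsSimpleGroup G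
  noncomm : ¬ IsMulCommutative (S : Subgroup G)
  noSE : ∀ H : Subgroup G, ¬ Cfsg.IsStronglyEmbedded H
  elem : Cfsg.IsElementaryAbelian 2 A
  four : 4 ≤ Nat.card A
  closed : Cfsg.IsStronglyClosed A (S : Subgroup G)
  sylow_le : (S : Subgroup G) ≤ normalizer (A : Set G)
  irred : ∀ X ≤ A, (∀ g ∈ normalizer (A : Set G), cj g X = X) → X = ⊥ ∨ X = A
  control : ∀ x ∈ (S : Subgroup G), ∀ g : G, g * x * g⁻¹ ∈ (S : Subgroup G) →
    ∃ n ∈ normalizer (A : Set G), n * x * n⁻¹ = g * x * g⁻¹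
  no_two : ∀ K : Subgroup G, centralizer (A : Set G) ≤ K → K ≤ normalizer (A : Set G) →
    K.relIndex (normalizer (A : Set G)) ≠ 2

/-- The subgroup generated by the `C(C)`-conjugates of `V`. -/
def blockGroup (V C : Subgroup G) : Subgroup G :=
  closure {x | ∃ g ∈ centralizer (C : Set G), ∃ v ∈ V, x = g * v * g⁻¹}

/-- A pair which is seen at every element of its kernel. -/
def Stable (P : G → Subgroup G → Subgroup G → Prop) (V C : Subgroup G) : Prop :=
  C ≠ ⊥ ∧ ∀ u ∈ C, u ≠ 1 → P u V C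

/-- What is known about the moved components of the centralizers of the elements of `A`. -/
structure Facts (A : Subgroup G) (P : G → Subgroup G → Subgroup G → Prop) : Prop where
  mem : ∀ {a : G} {V C : Subgroup G}, P a V C → a ∈ C ∧ a ≠ 1
  sup : ∀ {a : G} {V C : Subgroup G}, P a V C → V ⊔ C = A
  inf : ∀ {a : G} {V C : Subgroup G}, P a V C → V ⊓ C = ⊥
  four : ∀ {a : G} {V C : Subgroup G}, P a V C → 4 ≤ Nat.card V
  /-- L-balance. -/
  pump : ∀ {a u : G} {V C : Subgroup G}, P a V C → u ∈ C → u ≠ 1 →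
    ∃ V' C' : Subgroup G, P u V' C' ∧ V ≤ V' ∧ C' ≤ C
  /-- Two components of one centralizer. -/
  same : ∀ {a : G} {V C V' C' : Subgroup G}, P a V C → P a V' C' →
    (V = V' ∧ C = C') ∨ (V' ≤ C ∧ V ≤ C')
  conj : ∀ {a : G} {V C : Subgroup G}, P a V C → ∀ n ∈ normalizer (A : Set G),
    P (n * a * n⁻¹) (cj n V) (cj n C)
  homology : ∀ {a : G} {V C : Subgroup G}, P a V C → ∀ b ∈ V, b ≠ 1 → ∀ b' ∈ V, b' ≠ 1 →
    ∃ h ∈ normalizer (A : Set G), cj h V = V ∧ (∀ c ∈ C, h * c * h⁻¹ = c) ∧ h * b * h⁻¹ = b' ∧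
      ((∃ v ∈ V, v ≠ 1 ∧ h * v * h⁻¹ = v) → ∀ v ∈ V, h * v * h⁻¹ = v)
  /-- `C(a)` is covered by its core, `N(A)` and the centralizers of the kernels at `a`. -/
  cover : ∀ a ∈ A, a ≠ 1 → ∀ M : Subgroup G, coreCent ({a} : Set G) ≤ M → normalizer (A : Set G) ≤ M →
    (∀ V C : Subgroup G, P a V C → centralizer (C : Set G) ≤ M) → centralizer ({a} : Set G) ≤ M
  /-- An element of the core of the centralizer of `U` lies in the core of that of `a`, unless it acts on a
  moved component at `a`. -/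
  weight : ∀ U ≤ A, U ≠ ⊥ → ∀ x ∈ coreCent (U : Set G), ∀ a ∈ A, a ≠ 1 → Commute x a →
    (∀ V C : Subgroup G, P a V C → U ≤ C ∨ ∃ h ∈ C, h * x * h⁻¹ = x⁻¹) → x ∈ coreCent ({a} : Set G)
  /-- `A` gives `3`-balance. -/
  three : ∀ D ≤ A, Nat.card D = 8 → ∀ b ∈ A, b ≠ 1 → ∀ x : G, Commute x b →
    (∀ d ∈ D, d ≠ 1 → x ∈ coreCent ({d} : Set G)) → x ∈ coreCent ({b} : Set G)
  perfect : ∀ {V C : Subgroup G}, Stable P V C →
    blockGroup V C ≤ ⁅blockGroup V C, blockGroup V C⁆ ⊔ coreCent (C : Set G)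
  commute : ∀ {V C V' C' : Subgroup G}, Stable P V C → Stable P V' C' → C ≠ C' →
    ∀ c ∈ C, c ∈ C' → c ≠ 1 → ⁅blockGroup V C, blockGroup V' C'⁆ ≤ coreCent ({c} : Set G)
  fix : ∀ {V C : Subgroup G}, Stable P V C → ∀ c ∈ C, c ≠ 1 → ∀ g ∈ centralizer ({c} : Set G),
    g ∈ centralizer (V : Set G) → cj g (blockGroup V C) ≤ blockGroup V C ⊔ coreCent ({c} : Set G)

/-- The output of the dichotomy: the pairs of largest first member, at least three, pairwise orthogonal. -/
structure BlockSystem (A : Subgroup G) (P : G → Subgroup G → Subgroup G → Prop)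
    (B : Set (Subgroup G × Subgroup G)) : Prop where
  stable : ∀ b ∈ B, Stable P b.1 b.2
  sup : ∀ b ∈ B, b.1 ⊔ b.2 = A
  inf : ∀ b ∈ B, b.1 ⊓ b.2 = ⊥
  orth : ∀ b ∈ B, ∀ c ∈ B, b ≠ c → c.1 ≤ b.2
  meet : ∀ b ∈ B, ∀ c ∈ B, b.2 ⊓ c.2 ≠ ⊥
  span : (⨆ b ∈ B, b.1) = A
  three : ∃ b₁ ∈ B, ∃ b₂ ∈ B, ∃ b₃ ∈ B, b₁ ≠ b₂ ∧ b₁ ≠ b₃ ∧ b₂ ≠ b₃
  rank : ∀ b ∈ B, 16 ≤ Nat.card b.2
  invariant : ∀ b ∈ B, ∀ n ∈ normalizer (A : Set G), (cj n b.1, cj n b.2) ∈ B
  below : ∀ {a : G} {V C : Subgroup G}, P a V C → ∃ b ∈ B, V ≤ b.1 ∧ b.2 ≤ C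

/-- Slice II (linear algebra on the pairs). -/
def Dichotomy : Prop :=
  ∀ (G : Type u) [Group G] [Finite G] (S : Sylow 2 G) (A : Subgroup G)
    (P : G → Subgroup G → Subgroup G → Prop), Setting S A → Facts A P → 8 < Nat.card A →
    (∃ a V C, P a V C) → ∃ B, BlockSystem A P B

/-- Slice V (three-balance and weights). -/
def BlockStep : Prop :=
  ∀ (G : Type u) [Group G] [Finite G] (S : Sylow 2 G) (A : Subgroup G)
    (P : G → Subgroup G → Subgroup G → Prop), Setting S A → Facts A P →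
    ∀ B, BlockSystem A P B → ∃ M : Subgroup G, M ≠ ⊤ ∧ normalizer (A : Set G) ≤ M ∧
      ∀ a ∈ A, a ≠ 1 → centralizer ({a} : Set G) ≤ M

/-- The possible simple components: Walter type, or non-abelian Sylow 2-subgroups and a strongly embedded
subgroup. -/
def GoldType (K : Type u) [Group K] : Prop :=
  Walter.IsWalterType K ∨
    ((∀ T : Sylow 2 K, ¬ IsMulCommutative (T : Subgroup K)) ∧ ∃ H : Subgroup K, Cfsg.IsStronglyEmbedded H)

/-- The induction hypothesis: the smaller simple groups with a strongly closed abelian subgroup. -/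
def Smaller (G : Type u) [Group G] : Prop :=
  ∀ (K : Type u) [Group K] [Finite K] [IsSimpleGroup K], ¬ IsMulCommutative K → Nat.card K < Nat.card G →
    ∀ (T : Sylow 2 K) (B : Subgroup K), B ≠ ⊥ → IsMulCommutative B →
      Cfsg.IsStronglyClosed B (T : Subgroup K) → GoldType K

/-- Slice VI: `A` is not a four group. -/
def RankTwo : Prop :=
  ∀ (G : Type u) [Group G] [Finite G] (S : Sylow 2 G) (A : Subgroup G), Smaller G → Setting S A →
    Nat.card A = 4 → False

end CfsgLib.Invol.Goldschmidt
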