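import Mathlib.GroupTheory.Solvable
import Mathlib.GroupTheory.Commutator.Basic
import Cfsg.Agent.Lib.Invol.Goldschmidt.Spine
import Cfsg.Agent.Lib.OddLocal.Final.OddOrder

/-!
# Group lemmas for the block step of the strongly closed abelian subgroup theorem

A perfect group with central commutators with `W` centralises `W`; the perfect residual of a
product of `K` with a solvable group centralised by `K`; `O(C(S))` depends only on `C(S)`.
-/

set_option autoImplicit false
set_option linter.style.haveILetI false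

namespace CfsgLib.Invol.Goldschmidt.BlockAux

open Subgroup
open CfsgLib.FTDep (coreCent)
open scoped commutatorElement

universe u

variable {G : Type u} [Group G]

/-- A perfect group with central commutators with `W` centralises `W`. -/
theorem commute_of_perfect {K W : Subgroup G} (hK : ⁅K, K⁆ = K) (h : ⁅⁅K, W⁆, K⁆ = ⊥) :
    ⁅K, W⁆ = ⊥ := by
  have h2 : ⁅⁅W, K⁆, K⁆ = ⊥ := by rwa [commutator_comm W K]
  have h3 := commutator_commutator_eq_bot_of_rotate h h2
  rwa [hK] at h3

/-- Commutators in a product of two commuting subgroups. -/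
theorem commutator_sup_le {K X : Subgroup G} (h : K ≤ centralizer (X : Set G)) :
    ⁅K ⊔ X, K ⊔ X⁆ ≤ K ⊔ ⁅X, X⁆ := by
  have hn : K ≤ normalizer (X : Set G) := h.trans (centralizer_le_normalizer _)
  refine commutator_le.mpr fun x hx y hy => ?_
  obtain ⟨k, hk, o, ho, rfl⟩ := (CfsgLib.Core.mem_sup_iff_mul hn).mp hx
  obtain ⟨l, hl, u, hu, rfl⟩ := (CfsgLib.Core.mem_sup_iff_mul hn).mp hy
  have hc : ∀ k ∈ K, ∀ o ∈ X, Commute k o := fun k hk o ho =>
    (mem_centralizer_iff.mp (h hk) o ho).symm
  have e : ⁅k * o, l * u⁆ = ⁅k, l⁆ * ⁅o, u⁆ := by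
    have c1 : Commute o l := (hc l hl o ho).symm
    have c2 : Commute (o * u * o⁻¹) k⁻¹ :=
      (hc k⁻¹ (inv_mem hk) _ (mul_mem (mul_mem ho hu) (inv_mem ho))).symm
    have c3 : Commute (o * u * o⁻¹ * u⁻¹) l⁻¹ :=
      (hc l⁻¹ (inv_mem hl) _ (mul_mem (mul_mem (mul_mem ho hu) (inv_mem ho)) (inv_mem hu))).symm
    calc ⁅k * o, l * u⁆ = k * (o * l) * u * o⁻¹ * k⁻¹ * u⁻¹ * l⁻¹ := by
          rw [commutatorElement_def]; group
      _ = k * l * ((o * u * o⁻¹) * k⁻¹) * u⁻¹ * l⁻¹ := by rw [c1.eq]; group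
      _ = k * l * k⁻¹ * ((o * u * o⁻¹ * u⁻¹) * l⁻¹) := by rw [c2.eq]; group
      _ = ⁅k, l⁆ * ⁅o, u⁆ := by
          rw [c3.eq, commutatorElement_def, commutatorElement_def]; group
  rw [e]
  exact mul_mem
    (mem_sup_left (mul_mem (mul_mem (mul_mem hk hl) (inv_mem hk)) (inv_mem hl)))
    (mem_sup_right (commutator_mem_commutator ho hu))

/-- A perfect subgroup of `K X`, `X` solvable and centralised by `K`, lies in `K`. -/
theorem perfect_le {K X L : Subgroup G} (hL : L ≤ ⁅L, L⁆) (hLKX : L ≤ K ⊔ X)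
    (h : K ≤ centralizer (X : Set G)) [hX : Group.IsSolvable X] : L ≤ K := by
  have key : ∀ n, L ≤ K ⊔ (derivedSeries X n).map X.subtype := by
    intro n
    induction n with
    | zero => rwa [derivedSeries_zero, ← MonoidHom.range_eq_map, Subgroup.range_subtype]
    | succ n ih =>
      rw [derivedSeries_succ, Subgroup.map_commutator]
      exact (hL.trans (commutator_mono ih ih)).trans
        (commutator_sup_le (h.trans (centralizer_le (map_subtype_le _))))
  obtain ⟨n, hn⟩ := (isSolvable_def X).mp hX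
  exact (key n).trans (by rw [hn, Subgroup.map_bot, sup_bot_eq])

section Finite

variable [Finite G]

/-- `O(C(S))` depends only on `C(S)`. -/
theorem coreCent_congr {S T : Set G} (h : centralizer S = centralizer T) :
    coreCent S ≤ coreCent T := fun _ hx =>
  FTDep.mem_coreCent_of (h ▸ FTDep.coreCent_le S hx) (h ▸ FTDep.coreCent_le S)
    (h ▸ FTDep.coreCent_norm S) (FTDep.coreCent_odd S) hx

/-- Odd groups are solvable. -/
theorem coreCent_solvable (S : Set G) : Group.IsSolvable (coreCent S) :=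
  CfsgLib.OddLocal.FTFinal.odd_solvable_all _ (FTDep.coreCent_odd S)

end Finite

end CfsgLib.Invol.Goldschmidt.BlockAux
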