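import Cfsg.Agent.S1299
import Cfsg.Prelude.Def_EvenTechniques
import Cfsg.Agent.Lib.OddLocal.Final.OddOrder

/-!
# The closure of the functor of a group that is `k`-balanced with respect to `A`

The induction is that of `S1299`, with balance assumed for the subgroups of `A` only.
-/

set_option autoImplicit false
set_option linter.style.haveILetI false

namespace CfsgLib.InvolGoldschmidt.G4

open Subgroup CfsgLib CfsgLib.Signalizer Cfsg.Agent.S1299

variable {G : Type*} [Group G] [Finite G] {p k : ℕ} [hp : Fact p.Prime] {A : Subgroup G}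

/-- Balance with respect to `A`: `Δ(D) ∩ C(F) ≤ Δ(F)`. -/
theorem delta_inf_centralizer_le_wrt (hbal : Cfsg.IsKBalancedWrt p k A)
    (hA : Cfsg.IsElementaryAbelian p A) {D F : Subgroup G} (hD : D ≤ A)
    (hDk : p ^ k ≤ Nat.card D) (hF : F ≤ A) :
    Cfsg.signalizerDelta p D ⊓ centralizer (F : Set G) ≤ Cfsg.signalizerDelta p F :=
  le_iInf fun b => le_trans
    (inf_le_inf le_rfl (centralizer_le (Set.singleton_subset_iff.mpr b.2.1)))
    (hbal D hD (elementary_of_le hA hD) hDk b.1 (hF b.2.1) b.2.2)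

/-- The fixed points of `gen B` in a subgroup of index at most `p` above `B`. -/
theorem gen_inf_centralizer_le_wrt (hbal : Cfsg.IsKBalancedWrt p k A)
    (hA : Cfsg.IsElementaryAbelian p A) (hAk : p ^ (k + 2) ≤ Nat.card A)
    (hsolv : ∀ a ∈ A, a ≠ 1 → Group.IsSolvable ↥(Cfsg.centralizerPPrimeCore p a)) :
    ∀ n : ℕ, ∀ B : Subgroup G, B ≤ A → B ≠ ⊥ → B.relIndex A ≤ n → ∀ E : Subgroup G, B ≤ E →
      E ≤ A → E.relIndex A ≤ p →
        gen p A B ⊓ centralizer (E : Set G) ≤ Cfsg.signalizerDelta p E := by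
  intro n
  induction n using Nat.strong_induction_on with
  | _ n ih =>
    intro B hBA hB1 hn E hBE hEA hEi
    by_cases hBk : p ^ k ≤ Nat.card B
    · refine le_trans (inf_le_inf_right _ (gen_le fun F h1 _ _ => delta_antitone h1)) ?_
      exact delta_inf_centralizer_le_wrt hbal hA hBA hBk hEA
    -- a rank three complement carries a signalizer functor with closure `gen B`
    have hB3 : Nat.card B * p ^ 3 ≤ Nat.card A := by
      obtain ⟨m, hm⟩ := (elementary_isPGroup (elementary_of_le hA hBA)).exists_card_eq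
      have : m < k := (Nat.pow_lt_pow_iff_right hp.out.one_lt).mp (hm ▸ not_le.mp hBk)
      rw [hm, ← pow_add]
      exact (Nat.pow_le_pow_right hp.out.pos (by omega)).trans hAk
    obtain ⟨C, hCA, hC3, hCB⟩ := exists_disjoint_big hA hBA hB3
    have hlt : ∀ c ∈ C, c ≠ 1 → (B ⊔ zpowers c).relIndex A < n := by
      intro c hc hc1
      refine lt_of_lt_of_le ?_ hn
      have hle : B ⊔ zpowers c ≤ A := sup_le hBA (zpowers_le.mpr (hCA hc))
      rw [← relIndex_mul_relIndex B (B ⊔ zpowers c) A le_sup_left hle]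
      have h2 : B.relIndex (B ⊔ zpowers c) ≠ 1 := fun e1 =>
        hc1 (mem_bot.mp (hCB.le ⟨hc, relIndex_eq_one.mp e1 (mem_sup_right (mem_zpowers c))⟩))
      have h3 : B.relIndex (B ⊔ zpowers c) ≠ 0 := index_ne_zero_of_finite
      exact lt_mul_left (Nat.pos_of_ne_zero index_ne_zero_of_finite) (by omega)
    have hIH : ∀ c ∈ C, c ≠ 1 → ∀ F : Subgroup G, B ⊔ zpowers c ≤ F → F ≤ A → F.relIndex A ≤ p →
        gen p A (B ⊔ zpowers c) ⊓ centralizer (F : Set G) ≤ Cfsg.signalizerDelta p F :=
      fun c hc hc1 => ih _ (hlt c hc hc1) _ (sup_le hBA (zpowers_le.mpr (hCA hc)))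
        (fun e => hB1 (le_bot_iff.mp (e ▸ le_sup_left))) le_rfl
    let θ : G → Subgroup G := fun c => gen p A (B ⊔ zpowers c)
    obtain ⟨⟨b, hb⟩, hb0⟩ := B.ne_bot_iff_exists_ne_one.mp hB1
    have hb1 : b ≠ 1 := fun e => hb0 (Subtype.ext e)
    have hθ : Cfsg.IsSignalizerFunctor p C θ := by
      refine ⟨?_, ?_, ?_, ?_⟩
      · exact fun c _ _ => gen_le_centralizer.trans
          (centralizer_le (Set.singleton_subset_iff.mpr (mem_sup_right (mem_zpowers c))))
      · exact fun c _ _ => not_dvd_of_le (core_not_dvd b) (gen_le_core (mem_sup_left hb) hb1)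
      · exact fun c _ _ d hd x hx => Core.conj_mem_of_le_normalizer (le_normalizer_gen hA _) (hCA hd) hx
      · intro c hc hc1 d hd hd1
        refine le_of_hyperplanes_le hA
          (not_dvd_of_le (core_not_dvd b) (inf_le_left.trans (gen_le_core (mem_sup_left hb) hb1)))
          (le_normalizer_inf (le_normalizer_gen hA _)
            (le_normalizer_centralizer_of_le hA (Set.singleton_subset_iff.mpr (hCA hd))))
          fun F hF hFi x hx => ?_
        let F' := (F ⊔ (B ⊔ zpowers c)) ⊔ zpowers d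
        have hF'A : F' ≤ A :=
          sup_le (sup_le hF (sup_le hBA (zpowers_le.mpr (hCA hc)))) (zpowers_le.mpr (hCA hd))
        have hF'i : F'.relIndex A ≤ p :=
          (Nat.le_of_dvd (Nat.pos_of_ne_zero index_ne_zero_of_finite)
            (relIndex_dvd_of_le_left A (le_sup_left.trans le_sup_left))).trans hFi
        have hxC : x ∈ centralizer (F' : Set G) := by
          refine le_centralizer_sup (X := zpowers x) (le_centralizer_sup ?_ ?_) ?_ (mem_zpowers x)
          · exact zpowers_le.mpr hx.2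
          · exact zpowers_le.mpr (gen_le_centralizer hx.1.1)
          · rw [zpowers_le, zpowers_eq_closure, centralizer_closure]; exact hx.1.2
        exact delta_le_gen
          (sup_le ((le_sup_left.trans le_sup_right).trans le_sup_left) le_sup_right) hF'A hF'i
          (hIH c hc hc1 F' (le_sup_right.trans le_sup_left) hF'A hF'i ⟨hx.1.1, hxC⟩)
    have hcl : Cfsg.signalizerClosure C θ ≤ gen p A B :=
      closure_le_iff.mpr fun c _ _ => gen_antitone le_sup_left
    have hCE : ∀ F : Subgroup G, F.relIndex A ≤ p → ∃ c ∈ C, c ≠ 1 ∧ c ∈ F := by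
      intro F hFi
      by_contra hcon
      push Not at hcon
      have hFC : F ⊓ C = ⊥ := (eq_bot_iff_forall _).mpr fun x hx =>
        by_contra fun hx1 => hcon x hx.2 hx1 hx.1
      have h1 : F.relIndex C ≤ p := (relIndex_le_of_le_right hCA index_ne_zero_of_finite).trans hFi
      rw [← inf_relIndex_right F C, hFC, relIndex_bot_left] at h1
      have h3 : p ^ 1 < p ^ 3 := Nat.pow_lt_pow_right hp.out.one_lt (by norm_num)
      rw [pow_one] at h3
      omega
    have hge : gen p A B ≤ Cfsg.signalizerClosure C θ := gen_le fun F h1 h2 h3 => by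
      obtain ⟨c, hc, hc1, hcF⟩ := hCE F h3
      exact (delta_le_gen (sup_le h1 (zpowers_le.mpr hcF)) h2 h3).trans (le_closure (θ := θ) hc hc1)
    obtain ⟨c, hc, hc1, hcE⟩ := hCE E hEi
    have hcomp := closure_inf_centralizer (elementary_of_le hA hCA) hC3 hθ
      (Core.isSolvable_of_le (hsolv b (hBA hb) hb1) (hcl.trans (gen_le_core hb hb1)))
      (not_dvd_of_le (core_not_dvd b) (hcl.trans (gen_le_core hb hb1))) hc hc1
    rintro x ⟨hx, hxE⟩
    refine hIH c hc hc1 E (sup_le hBE (zpowers_le.mpr hcE)) hEA hEi ⟨?_, hxE⟩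
    exact hcomp.le ⟨hge hx, centralizer_le (Set.singleton_subset_iff.mpr hcE) hxE⟩

/-- The functor `a ↦ gen ⟨a⟩` is a solvable signalizer functor. -/
theorem gen_isSolvableSignalizerFunctor (hbal : Cfsg.IsKBalancedWrt p k A)
    (hA : Cfsg.IsElementaryAbelian p A) (hAk : p ^ (k + 2) ≤ Nat.card A)
    (hsolv : ∀ a ∈ A, a ≠ 1 → Group.IsSolvable ↥(Cfsg.centralizerPPrimeCore p a)) :
    Cfsg.IsSolvableSignalizerFunctor p A (fun a => gen p A (zpowers a)) := by
  refine ⟨⟨?_, ?_, ?_, ?_⟩, fun a ha ha1 =>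
    Core.isSolvable_of_le (hsolv a ha ha1) (gen_le_core (mem_zpowers a) ha1)⟩
  · intro a _ _
    exact gen_le_centralizer.trans (centralizer_le (Set.singleton_subset_iff.mpr (mem_zpowers a)))
  · intro a _ ha1
    exact not_dvd_of_le (core_not_dvd a) (gen_le_core (mem_zpowers a) ha1)
  · intro a _ _ b hb x hx
    exact Core.conj_mem_of_le_normalizer (le_normalizer_gen hA _) hb hx
  · intro a ha ha1 b hb hb1
    refine le_of_hyperplanes_le hA
      (not_dvd_of_le (core_not_dvd a) (inf_le_left.trans (gen_le_core (mem_zpowers a) ha1)))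
      (le_normalizer_inf (le_normalizer_gen hA _)
        (le_normalizer_centralizer_of_le hA (Set.singleton_subset_iff.mpr hb)))
      fun F hF hFi x hx => ?_
    let F' := (F ⊔ zpowers a) ⊔ zpowers b
    have hF'A : F' ≤ A := sup_le (sup_le hF (zpowers_le.mpr ha)) (zpowers_le.mpr hb)
    have hF'i : F'.relIndex A ≤ p := (Nat.le_of_dvd (Nat.pos_of_ne_zero index_ne_zero_of_finite)
      (relIndex_dvd_of_le_left A (le_sup_left.trans le_sup_left))).trans hFi
    have hxC : x ∈ centralizer (F' : Set G) := by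
      refine le_centralizer_sup (X := zpowers x) (le_centralizer_sup (zpowers_le.mpr hx.2) ?_) ?_
        (mem_zpowers x)
      · exact zpowers_le.mpr (gen_le_centralizer hx.1.1)
      · rw [zpowers_le, zpowers_eq_closure, centralizer_closure]; exact hx.1.2
    exact delta_le_gen le_sup_right hF'A hF'i (gen_inf_centralizer_le_wrt hbal hA hAk hsolv _ _
      (zpowers_le.mpr ha) (fun e => ha1 (zpowers_eq_bot.mp e)) le_rfl F'
      (le_sup_right.trans le_sup_left) hF'A hF'i ⟨hx.1.1, hxC⟩)

end CfsgLib.InvolGoldschmidt.G4
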