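import Cfsg.Agent.Lib.Invol.Goldschmidt.BlockStepGroup
import Cfsg.Agent.Lib.Invol.Goldschmidt.G4Balance
import Cfsg.Agent.Lib.Techniques.KBalanceFunctor

/-!
# Balance and weights for the block step of the strongly closed abelian subgroup theorem

`DeltaTrivial`: the case `W = 1`.  Then an element of `O(C(U))` inverted outside a hyperplane is
trivial unless the hyperplane contains the kernel of a block not containing `U`.
-/

set_option autoImplicit false
set_option linter.style.haveILetI false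

namespace CfsgLib.Invol.Goldschmidt.BlockAux

open Subgroup
open CfsgLib.FTDep (coreCent)
open CfsgLib.Signalizer (elementary_comm elementary_of_le elementary_isPGroup le_of_hyperplanes_le)

universe u

variable {G : Type u} [Group G] [Finite G] {S : Sylow 2 G} {A : Subgroup G}
  {P : G → Subgroup G → Subgroup G → Prop} {B : Set (Subgroup G × Subgroup G)}

/-- The case `W = 1`. -/
def DeltaTrivial (A : Subgroup G) : Prop :=
  ∀ D : Subgroup G, D ≤ A → 8 ≤ Nat.card D → Cfsg.signalizerDelta 2 D = ⊥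

theorem le_centralizer_of_le (hs : Setting S A) {U : Subgroup G} (hU : U ≤ A) :
    A ≤ centralizer (U : Set G) := fun _ hx =>
  mem_centralizer_iff.mpr fun _ hu => elementary_comm hs.elem (hU hu) hx

theorem sq_eq (hs : Setting S A) {x : G} (hx : x ∈ A) : x * x = 1 := by
  have := hs.elem.2 x hx
  rwa [pow_two] at this

/-- `G` is `3`-balanced with respect to `A`. -/
theorem balance (hs : Setting S A) (hf : Facts A P) : Cfsg.IsKBalancedWrt 2 3 A := by
  haveI : Fact (Nat.Prime 2) := ⟨Nat.prime_two⟩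
  intro D hDA hD hD8 b hb hb1 x hx
  obtain ⟨hxD, hxb⟩ := mem_inf.mp hx
  obtain ⟨n, hn⟩ := (elementary_isPGroup hD).exists_card_eq
  have hn3 : 3 ≤ n := (Nat.pow_le_pow_iff_right (by norm_num)).mp (hn ▸ hD8)
  obtain ⟨D₀, hD₀⟩ := Sylow.exists_subgroup_card_pow_prime (G := ↥D) 2 (hn ▸ pow_dvd_pow 2 hn3)
  refine hf.three (D₀.map D.subtype) ((map_subtype_le _).trans hDA)
    (by rw [card_map_of_injective D.subtype_injective, hD₀]; norm_num) b hb hb1 x
    (mem_centralizer_singleton_iff.mp hxb) fun d hd hd1 => ?_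
  exact Techniques.mem_delta_iff.mp hxD d (map_subtype_le _ hd) hd1

/-- A block is determined by its kernel. -/
theorem block_kernel_inj (hf : Facts A P) (hB : BlockSystem A P B) {i j : Subgroup G × Subgroup G}
    (hi : i ∈ B) (hj : j ∈ B) (h : i.2 = j.2) : i = j := by
  by_contra hne
  have h1 : i.1 ≤ i.2 := h ▸ hB.orth j hj i hi (Ne.symm hne)
  obtain ⟨hC, hP⟩ := hB.stable i hi
  obtain ⟨⟨c, hc⟩, hc0⟩ := (i.2).ne_bot_iff_exists_ne_one.mp hC
  have h4 := hf.four (hP c hc fun e => hc0 (Subtype.ext e))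
  rw [← inf_eq_left.mpr h1, hB.inf i hi, card_bot] at h4
  omega

/-- Two kernels generate `A`. -/
theorem kernels_sup (hB : BlockSystem A P B) {i j : Subgroup G × Subgroup G}
    (hi : i ∈ B) (hj : j ∈ B) (hne : i ≠ j) : A ≤ i.2 ⊔ j.2 :=
  (hB.sup j hj).ge.trans (sup_le ((hB.orth i hi j hj hne).trans le_sup_left) le_sup_right)

/-- Kernels lie in `A`. -/
theorem kernel_le (hB : BlockSystem A P B) {i : Subgroup G × Subgroup G} (hi : i ∈ B) : i.2 ≤ A :=
  le_sup_right.trans (hB.sup i hi).le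

/-- Images lie in `A`. -/
theorem image_le (hB : BlockSystem A P B) {i : Subgroup G × Subgroup G} (hi : i ∈ B) : i.1 ≤ A :=
  le_sup_left.trans (hB.sup i hi).le

/-- `A` has order at least `32`. -/
theorem card_A (hf : Facts A P) (hB : BlockSystem A P B) : 32 ≤ Nat.card A := by
  obtain ⟨i, hi, -⟩ := hB.three
  obtain ⟨hC, hP⟩ := hB.stable i hi
  obtain ⟨⟨c, hc⟩, hc0⟩ := (i.2).ne_bot_iff_exists_ne_one.mp hC
  have h4 := hf.four (hP c hc fun e => hc0 (Subtype.ext e))
  have h1 : Nat.card i.1 * Nat.card i.2 ≤ Nat.card A := by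
    rw [← Nat.card_prod]
    refine Nat.card_le_card_of_injective
      (fun p => (⟨(p.1 : G) * p.2, mul_mem (image_le hB hi p.1.2) (kernel_le hB hi p.2.2)⟩ : A)) ?_
    exact fun p q h => Subgroup.mul_injective_of_disjoint (disjoint_iff.mpr (hB.inf i hi))
      (congrArg Subtype.val h)
  have := Nat.mul_le_mul h4 (hB.rank i hi)
  omega

/-- An element of `O(C(U))` centralised by a hyperplane `H` and inverted by an element of `A` is
trivial, if the kernels inside `H` contain `U` whenever `H` does. -/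
theorem weight_trivial (hs : Setting S A) (hf : Facts A P) (hB : BlockSystem A P B)
    (hD : DeltaTrivial A) {U H : Subgroup G} (hU : U ≤ A) (hU1 : U ≠ ⊥) (hH : H ≤ A)
    (hHi : H.relIndex A ≤ 2) {x d : G} (hx : x ∈ coreCent (U : Set G))
    (hxH : x ∈ centralizer (H : Set G)) (hd : d ∈ A) (hinv : d * x * d⁻¹ = x⁻¹)
    (hHP : ∀ l ∈ B, l.2 ≤ H → U ≤ H → U ≤ l.2) : x = 1 := by
  have hxo : Odd (orderOf x) :=
    (FTDep.coreCent_odd _).of_dvd_nat ((coreCent (U : Set G)).orderOf_dvd_natCard hx)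
  by_contra hx1
  have hne : x⁻¹ ≠ x := fun h => hx1 (orderOf_eq_one_iff.mp (by
    have h2 : x ^ 2 = 1 := by
      rw [pow_two]
      nth_rewrite 2 [← h]
      rw [mul_inv_cancel]
    exact Nat.eq_one_of_dvd_coprimes (Nat.coprime_two_right.mpr hxo) dvd_rfl
      (orderOf_dvd_of_pow_eq_one h2)))
  have hHfix : ∀ w ∈ H, w * x * w⁻¹ = x := fun w hw => by
    rw [mul_inv_eq_iff_eq_mul, mem_centralizer_iff.mp hxH w hw]
  have hdH : d ∉ H := fun h => hne (hinv.symm.trans (hHfix d h))
  have hout : ∀ w ∈ A, w ∉ H → w * x * w⁻¹ = x⁻¹ := by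
    intro w hw hwH
    have h2 : (H.subgroupOf A).index = 2 := by
      change H.relIndex A = 2
      have h0 : H.relIndex A ≠ 0 := index_ne_zero_of_finite
      have h1 : H.relIndex A ≠ 1 := fun e => hdH (relIndex_eq_one.mp e hd)
      omega
    have hdw : d * w ∈ H := (Subgroup.mul_mem_iff_of_index_two h2 (a := ⟨d, hd⟩)
      (b := ⟨w, hw⟩)).mpr (iff_of_false hdH hwH)
    calc w * x * w⁻¹ = (d * d) * w * x * w⁻¹ := by rw [sq_eq hs hd, one_mul]
      _ = d * ((d * w) * x * (d * w)⁻¹) * d := by group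
      _ = d * x * d⁻¹ * (d * d) := by rw [hHfix _ hdw]; group
      _ = x⁻¹ := by rw [hinv, sq_eq hs hd, mul_one]
  have hUH : U ≤ H := fun w hw => by
    by_contra hwH
    have h := hout w (hU hw) hwH
    rw [show w * x * w⁻¹ = x by
      rw [mul_inv_eq_iff_eq_mul, mem_centralizer_iff.mp (FTDep.coreCent_le _ hx) w hw]] at h
    exact hne h.symm
  have hH8 : 8 ≤ Nat.card H := by
    have h4 := relIndex_mul_relIndex ⊥ H A bot_le hH
    rw [relIndex_bot_left, relIndex_bot_left] at h4
    have := Nat.mul_le_mul_left (Nat.card H) hHi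
    have := card_A hf hB
    omega
  apply hx1
  rw [← mem_bot, ← hD H hH hH8]
  refine Techniques.mem_delta_iff.mpr fun a ha ha1 => ?_
  refine hf.weight U hU hU1 x hx a (hH ha) ha1 (mem_centralizer_iff.mp hxH a ha).symm
    fun V C hP => ?_
  by_cases hCH : C ≤ H
  · obtain ⟨l, hl, -, hlC⟩ := hB.below hP
    exact Or.inl ((hHP l hl (hlC.trans hCH) hUH).trans hlC)
  · obtain ⟨e, heC, heH⟩ := SetLike.not_le_iff_exists.mp hCH
    exact Or.inr ⟨e, heC, hout e ((hf.sup hP).le (mem_sup_right heC)) heH⟩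

/-- An element of `O(C(U))` centralised by a hyperplane is centralised by `e` if the kernels inside
the hyperplane contain `U` whenever it does. -/
theorem hyperplane_commute (hs : Setting S A) (hf : Facts A P) (hB : BlockSystem A P B)
    (hD : DeltaTrivial A) {U H : Subgroup G} (hU : U ≤ A) (hU1 : U ≠ ⊥) (hH : H ≤ A)
    (hHi : H.relIndex A ≤ 2) {x e : G} (hx : x ∈ coreCent (U : Set G))
    (hxH : x ∈ centralizer (H : Set G)) (he : e ∈ A)
    (hHP : ∀ l ∈ B, l.2 ≤ H → U ≤ H → U ≤ l.2) : e * x = x * e := by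
  have hAN : A ≤ normalizer (coreCent (U : Set G) : Set G) :=
    (le_centralizer_of_le hs hU).trans (FTDep.coreCent_norm _)
  have hz : e * (x⁻¹ * (e * x * e⁻¹)) * e⁻¹ = (x⁻¹ * (e * x * e⁻¹))⁻¹ := by
    calc e * (x⁻¹ * (e * x * e⁻¹)) * e⁻¹
        = (e * x⁻¹ * e⁻¹) * ((e * e) * x * (e * e)⁻¹) := by group
      _ = _ := by rw [sq_eq hs he]; group
  have hzH : x⁻¹ * (e * x * e⁻¹) ∈ centralizer (H : Set G) :=
    mul_mem (inv_mem hxH) (CfsgLib.Core.conj_mem_of_le_normalizer
      ((le_centralizer_of_le hs hH).trans le_normalizer) he hxH)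
  have h1 := weight_trivial hs hf hB hD hU hU1 hH hHi
    (mul_mem (inv_mem hx) (CfsgLib.Core.conj_mem_of_le_normalizer hAN he hx)) hzH he hz hHP
  rw [inv_mul_eq_one, eq_mul_inv_iff_mul_eq] at h1
  exact h1.symm

/-- `V ≤ A` centralises `O(C(U))` if the kernels in a hyperplane not containing `V` contain `U`
whenever it does. -/
theorem centralizes_core (hs : Setting S A) (hf : Facts A P) (hB : BlockSystem A P B)
    (hD : DeltaTrivial A) {U V : Subgroup G} (hU : U ≤ A) (hU1 : U ≠ ⊥) (hV : V ≤ A)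
    (hHP : ∀ H : Subgroup G, H ≤ A → ¬ V ≤ H → ∀ l ∈ B, l.2 ≤ H → U ≤ H → U ≤ l.2) :
    coreCent (U : Set G) ≤ centralizer (V : Set G) := by
  haveI : Fact (Nat.Prime 2) := ⟨Nat.prime_two⟩
  refine le_of_hyperplanes_le hs.elem
    (fun h => (Nat.not_even_iff_odd.mpr (FTDep.coreCent_odd _)) (even_iff_two_dvd.mpr h))
    ((le_centralizer_of_le hs hU).trans (FTDep.coreCent_norm _)) fun H hH hHi x hx => ?_
  refine mem_centralizer_iff.mpr fun e he => ?_
  by_cases heH : e ∈ H
  · exact mem_centralizer_iff.mp hx.2 e heH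
  · exact hyperplane_commute hs hf hB hD hU hU1 hH hHi hx.1 hx.2 (hV he)
      (hHP H hH fun h => heH (h he))

end CfsgLib.Invol.Goldschmidt.BlockAux
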