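import Cfsg.Agent.Lib.Invol.Goldschmidt.Spine
import Cfsg.Agent.Lib.TwoFusion.DisjointKernels

/-!
Owner: helper2. S1169, slice II: the pairs of largest first member form a block system.

* `Setting.conj_A`, `Facts.inv_pair`: elementary facts on a setting and its pairs.
* `config_of_disjoint`: when the kernels of the largest pairs meet trivially, `DisjointKernels.Config` applies.
* `dichotomy`: the slice.
-/

set_option autoImplicit false
set_option linter.style.haveILetI false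
set_option linter.unusedSectionVars false

namespace CfsgLib.Invol.Goldschmidt

open Subgroup

universe u

variable {G : Type u} [Group G] [Finite G] {S : Sylow 2 G} {A : Subgroup G}
  {P : G → Subgroup G → Subgroup G → Prop}

theorem Setting.sq (hS : Setting S A) {x : G} (hx : x ∈ A) : x * x = 1 := by
  have := hS.elem.2 x hx
  rwa [pow_two] at this

theorem Setting.comm (hS : Setting S A) {x y : G} (hx : x ∈ A) (hy : y ∈ A) : x * y = y * x :=
  congrArg Subtype.val (hS.elem.1.is_comm.comm ⟨x, hx⟩ ⟨y, hy⟩)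

theorem cj_card (g : G) (X : Subgroup G) : Nat.card (cj g X) = Nat.card X :=
  CfsgLib.DisjointKernels.card_cj g X

theorem Setting.conj_A (hS : Setting S A) {n : G} (hn : n ∈ normalizer (A : Set G)) : cj n A = A := by
  ext x
  show x ∈ CfsgLib.DisjointKernels.cj n A ↔ x ∈ A
  rw [CfsgLib.DisjointKernels.mem_cj, mem_normalizer_iff''.1 hn x]

theorem cj_inv_cancel (g : G) (X : Subgroup G) : cj g (cj g⁻¹ X) = X :=
  CfsgLib.DisjointKernels.cj_cj_inv g X

theorem cj_mul' (g h : G) (X : Subgroup G) : cj (g * h) X = cj g (cj h X) :=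
  CfsgLib.DisjointKernels.cj_mul g h X

theorem card_sup_of_disjoint (hS : Setting S A) {X Y : Subgroup G} (hX : X ≤ A) (hY : Y ≤ A)
    (h : X ⊓ Y = ⊥) : Nat.card ↥(X ⊔ Y) = Nat.card X * Nat.card Y := by
  have hn : X ≤ normalizer (Y : Set G) := fun k hk => mem_normalizer_iff.2 fun y => by
    constructor
    · intro hy
      rwa [hS.comm (hX hk) (hY hy), mul_inv_cancel_right]
    · intro hy
      have h1 : y = k⁻¹ * (k * y * k⁻¹) * k := by group
      rw [h1, hS.comm (inv_mem (hX hk)) (hY hy), inv_mul_cancel_right]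
      exact hy
  rw [← Nat.card_prod]
  refine (Nat.card_eq_of_bijective (fun p : X × Y => (⟨(p.1 : G) * p.2,
    mul_mem (mem_sup_left p.1.2) (mem_sup_right p.2.2)⟩ : ↥(X ⊔ Y))) ⟨?_, ?_⟩).symm
  · intro p q e
    exact Subgroup.mul_injective_of_disjoint (disjoint_iff.2 h) (congrArg Subtype.val e)
  · rintro ⟨z, hz⟩
    obtain ⟨x, hx, y, hy, e⟩ := (CfsgLib.Core.mem_sup_iff_mul hn).1 hz
    exact ⟨(⟨x, hx⟩, ⟨y, hy⟩), Subtype.ext e.symm⟩

namespace Facts

variable (hS : Setting S A) (hF : Facts A P) {a : G} {V C : Subgroup G}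
include hS hF

theorem le_left (h : P a V C) : V ≤ A := hF.sup h ▸ le_sup_left

theorem le_right (h : P a V C) : C ≤ A := hF.sup h ▸ le_sup_right

theorem card_mul (h : P a V C) : Nat.card V * Nat.card C = Nat.card A := by
  rw [← card_sup_of_disjoint hS (le_left hS hF h) (le_right hS hF h) (hF.inf h), hF.sup h]

theorem right_ne_bot (h : P a V C) : C ≠ ⊥ := fun e => by
  obtain ⟨h1, h2⟩ := hF.mem h
  rw [e, mem_bot] at h1
  exact h2 h1

theorem left_ne_bot (h : P a V C) : V ≠ ⊥ := fun e => by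
  have := hF.four h
  rw [e, card_bot] at this
  omega

/-- Nothing below a kernel and above the first member. -/
theorem right_ne_top (h : P a V C) : C ≠ A := fun e => by
  apply left_ne_bot hS hF h
  rw [← hF.inf h, inf_eq_left.2 (e ▸ le_left hS hF h)]

/-- One kernel, one pair. -/
theorem eq_of_kernel_eq (h : P a V C) {V' : Subgroup G} (h' : P a V' C) : V = V' :=
  (hF.same h h').elim And.left fun e => absurd
    (show V' = ⊥ by rw [← hF.inf h', inf_eq_left.2 e.1]) (left_ne_bot hS hF h')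

end Facts

/-- The pairs of largest first member. -/
def IsMax (P : G → Subgroup G → Subgroup G → Prop) (b : Subgroup G × Subgroup G) : Prop :=
  ∃ a, P a b.1 b.2 ∧ ∀ a' V' C', P a' V' C' → Nat.card V' ≤ Nat.card b.1

theorem exists_max (hF : Facts A P) (h : ∃ a V C, P a V C) : ∃ b, IsMax P b := by
  classical
  obtain ⟨a, V, C, h⟩ := h
  let T : Set ℕ := {n | ∃ a V C, P a V C ∧ Nat.card V = n}
  have hT : BddAbove T := ⟨Nat.card G, by
    rintro n ⟨-, V, -, -, rfl⟩
    exact card_le_card_group V⟩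
  obtain ⟨a', V', C', h', e⟩ := Nat.sSup_mem (show T.Nonempty from ⟨_, a, V, C, h, rfl⟩) hT
  exact ⟨(V', C'), a', h', fun a'' V'' C'' h'' => e ▸ le_csSup hT ⟨a'', V'', C'', h'', rfl⟩⟩

section Max

variable (hS : Setting S A) (hF : Facts A P) {b c : Subgroup G × Subgroup G}
include hS hF

theorem IsMax.card_eq (hb : IsMax P b) (hc : IsMax P c) :
    Nat.card b.1 = Nat.card c.1 ∧ Nat.card b.2 = Nat.card c.2 := by
  obtain ⟨a, ha, hb'⟩ := hb
  obtain ⟨a', ha', hc'⟩ := hc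
  have e := le_antisymm (hc' _ _ _ ha) (hb' _ _ _ ha')
  refine ⟨e, ?_⟩
  have h1 := Facts.card_mul hS hF ha
  have h2 := Facts.card_mul hS hF ha'
  rw [e] at h1
  exact Nat.eq_of_mul_eq_mul_left Nat.card_pos (h1.trans h2.symm)

theorem IsMax.stable (hb : IsMax P b) : Stable P b.1 b.2 := by
  obtain ⟨a, ha, hmax⟩ := hb
  refine ⟨Facts.right_ne_bot hS hF ha, fun u hu hu1 => ?_⟩
  obtain ⟨V', C', h', hV, hC⟩ := hF.pump ha hu hu1
  have e1 : b.1 = V' := eq_of_le_of_card_ge hV (hmax _ _ _ h')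
  have h1 := Facts.card_mul hS hF ha
  have h2 := Facts.card_mul hS hF h'
  rw [← e1] at h2
  have e2 : C' = b.2 :=
    eq_of_le_of_card_ge hC (Nat.eq_of_mul_eq_mul_left Nat.card_pos (h1.trans h2.symm)).le
  rwa [e1, ← e2]

theorem IsMax.sup_eq (hb : IsMax P b) : b.1 ⊔ b.2 = A := hb.elim fun _ h => hF.sup h.1

theorem IsMax.inf_eq (hb : IsMax P b) : b.1 ⊓ b.2 = ⊥ := hb.elim fun _ h => hF.inf h.1

theorem IsMax.le_left (hb : IsMax P b) : b.1 ≤ A := IsMax.sup_eq hS hF hb ▸ le_sup_left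

theorem IsMax.le_right (hb : IsMax P b) : b.2 ≤ A := IsMax.sup_eq hS hF hb ▸ le_sup_right

theorem IsMax.left_ne_bot (hb : IsMax P b) : b.1 ≠ ⊥ := hb.elim fun _ h => Facts.left_ne_bot hS hF h.1

theorem IsMax.right_ne_bot (hb : IsMax P b) : b.2 ≠ ⊥ := (IsMax.stable hS hF hb).1

theorem IsMax.right_ne_top (hb : IsMax P b) : b.2 ≠ A := hb.elim fun _ h => Facts.right_ne_top hS hF h.1

theorem IsMax.conj (hb : IsMax P b) {n : G} (hn : n ∈ normalizer (A : Set G)) :
    IsMax P (cj n b.1, cj n b.2) := by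
  obtain ⟨a, ha, hmax⟩ := hb
  exact ⟨_, hF.conj ha n hn, fun a' V' C' h' => (hmax a' V' C' h').trans (cj_card n b.1).ge⟩

theorem IsMax.orth (hb : IsMax P b) (hc : IsMax P c) (hne : b ≠ c) (hm : b.2 ⊓ c.2 ≠ ⊥) :
    c.1 ≤ b.2 ∧ b.1 ≤ c.2 := by
  obtain ⟨⟨u, hu⟩, hu1⟩ := (ne_bot_iff_exists_ne_one.1 hm)
  replace hu1 : u ≠ 1 := fun e => hu1 (Subtype.ext e)
  rcases hF.same ((IsMax.stable hS hF hb).2 u hu.1 hu1) ((IsMax.stable hS hF hc).2 u hu.2 hu1) with e | e
  · exact absurd (Prod.ext e.1 e.2) hne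
  · exact e

theorem IsMax.eq_of_kernel (hb : IsMax P b) (hc : IsMax P c) (e : b.2 = c.2) : b = c := by
  by_contra hne
  have h1 := (IsMax.orth hS hF hb hc hne (by rw [← e, inf_idem]; exact IsMax.right_ne_bot hS hF hb)).1
  apply IsMax.left_ne_bot hS hF hc
  rw [← IsMax.inf_eq hS hF hc, inf_eq_left.2 (e ▸ h1)]

theorem IsMax.inf_small (hb : IsMax P b) (hc : IsMax P c) (hne : b ≠ c)
    (hsmall : Nat.card b.2 ≤ Nat.card b.1) : b.2 ⊓ c.2 = ⊥ := by
  by_contra hm
  obtain ⟨h1, h2⟩ := IsMax.orth hS hF hb hc hne hm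
  obtain ⟨e1, e2⟩ := IsMax.card_eq hS hF hb hc
  have f1 : c.1 = b.2 := eq_of_le_of_card_ge h1 (e1 ▸ hsmall)
  have f2 : b.1 = c.2 := eq_of_le_of_card_ge h2 (e2 ▸ hsmall)
  apply hm
  rw [← f2, inf_comm, IsMax.inf_eq hS hF hb]

/-- Disjoint kernels: the hypotheses of the theorem on disjoint kernels. -/
theorem config_of_disjoint (hb : IsMax P b)
    (hdisj : ∀ c, IsMax P c → b ≠ c → b.2 ⊓ c.2 = ⊥) :
    CfsgLib.DisjointKernels.Config A (normalizer (A : Set G)) b.2 b.1 where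
  sq _ := hS.sq
  normA := le_rfl
  sup := by rw [sup_comm]; exact IsMax.sup_eq hS hF hb
  inf := by rw [inf_comm]; exact IsMax.inf_eq hS hF hb
  K_ne := IsMax.right_ne_bot hS hF hb
  B_ne := IsMax.left_ne_bot hS hF hb
  stab g hg e := (Prod.ext_iff.1 (IsMax.eq_of_kernel hS hF (IsMax.conj hS hF hb hg) hb e)).1
  disj g hg hne := by
    rw [inf_comm]
    exact hdisj _ (IsMax.conj hS hF hb hg) fun e => hne (congrArg Prod.snd e).symm
  homology x hx hx1 y hy hy1 := by
    obtain ⟨a, ha, -⟩ := hb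
    exact hF.homology ha x hx hx1 y hy hy1
  irred := hS.irred

theorem kernel_not_invariant (hb : IsMax P b) :
    ∃ g ∈ normalizer (A : Set G), cj g b.2 ≠ b.2 := by
  by_contra hno
  push Not at hno
  rcases hS.irred b.2 (IsMax.le_right hS hF hb) hno with e | e
  · exact IsMax.right_ne_bot hS hF hb e
  · exact IsMax.right_ne_top hS hF hb e

/-- The kernels are larger than the first members. -/
theorem IsMax.big (hb : IsMax P b) (h8 : 8 < Nat.card A) : Nat.card b.1 < Nat.card b.2 := by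
  by_contra hsmall
  push Not at hsmall
  have hcfg := config_of_disjoint hS hF hb fun c hc hne => IsMax.inf_small hS hF hb hc hne hsmall
  rcases hcfg.card_le_eight_or_two with h | ⟨-, hall⟩
  · omega
  obtain ⟨g₁, hg₁, hmove⟩ := kernel_not_invariant hS hF hb
  have hB : ∀ g ∈ normalizer (A : Set G), cj g b.2 ≠ b.2 → cj g b.2 = b.1 := fun g hg h =>
    (hall _ ⟨g, hg, rfl⟩).resolve_left h
  let K0 : Subgroup G :=
    { carrier := {g | g ∈ normalizer (A : Set G) ∧ cj g b.2 = b.2}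
      one_mem' := ⟨one_mem _, CfsgLib.DisjointKernels.cj_one _⟩
      mul_mem' := fun {x y} hx hy => ⟨mul_mem hx.1 hy.1, by rw [cj_mul', hy.2, hx.2]⟩
      inv_mem' := fun {x} hx => ⟨inv_mem hx.1, by
        conv_lhs => rw [← hx.2]
        exact CfsgLib.DisjointKernels.cj_inv_cj x b.2⟩ }
  have hC0 : centralizer (A : Set G) ≤ K0 := fun g hg =>
    ⟨centralizer_le_normalizer _ hg, CfsgLib.DisjointKernels.cj_eq_self fun x hx => by
      rw [← mem_centralizer_iff.1 hg x (IsMax.le_right hS hF hb hx), mul_inv_cancel_right]⟩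
  refine hS.no_two K0 hC0 (fun g hg => hg.1) (relIndex_eq_two_iff.2 ⟨g₁⁻¹, inv_mem hg₁, fun g hg => ?_⟩)
  show Xor _ _
  by_cases hgK : cj g b.2 = b.2
  · refine Or.inr ⟨⟨hg, hgK⟩, fun h => hmove ?_⟩
    have h2 : cj g₁⁻¹ b.2 = b.2 := by
      have := h.2
      rw [cj_mul'] at this
      exact (map_injective (MulAut.conj g).injective) (this.trans hgK.symm)
    conv_lhs => rw [← h2]
    exact cj_inv_cancel g₁ b.2
  · refine Or.inl ⟨⟨mul_mem hg (inv_mem hg₁), ?_⟩, fun h => hgK h.2⟩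
    have h1 := hB g₁ hg₁ hmove
    have h2 : cj g₁⁻¹ b.2 ≠ b.2 := fun e => hmove (by
      conv_lhs => rw [← e]
      exact cj_inv_cancel g₁ b.2)
    rw [cj_mul', hB _ (inv_mem hg₁) h2]
    have h3 : cj g b.1 ≠ b.1 := fun e => by
      have := hB g hg hgK
      exact IsMax.left_ne_bot hS hF hb (by
        have h4 : b.2 = b.1 := map_injective (MulAut.conj g).injective (this.trans e.symm)
        rw [← IsMax.inf_eq hS hF hb, h4, inf_idem])
    have h5 : cj (g * g₁) b.2 ≠ b.1 := by rw [cj_mul', h1]; exact h3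
    have h6 := (hall _ ⟨g * g₁, mul_mem hg hg₁, rfl⟩).resolve_right h5
    rwa [show CfsgLib.DisjointKernels.cj (g * g₁) b.2 = cj (g * g₁) b.2 from rfl, cj_mul', h1] at h6

theorem IsMax.meet (hb : IsMax P b) (hc : IsMax P c) (h8 : 8 < Nat.card A) : b.2 ⊓ c.2 ≠ ⊥ := by
  intro e
  obtain ⟨-, e2⟩ := IsMax.card_eq hS hF hb hc
  have hle : Nat.card b.2 * Nat.card c.2 ≤ Nat.card A := by
    rw [← card_sup_of_disjoint hS (IsMax.le_right hS hF hb) (IsMax.le_right hS hF hc) e]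
    exact card_le_of_le (sup_le (IsMax.le_right hS hF hb) (IsMax.le_right hS hF hc))
  obtain ⟨a, ha, -⟩ := id hb
  rw [← Facts.card_mul hS hF ha, ← e2] at hle
  have := IsMax.big hS hF hb h8
  have := Nat.le_of_mul_le_mul_right hle Nat.card_pos
  omega

theorem span_max (hb : IsMax P b) : (⨆ c ∈ {c | IsMax P c}, c.1) = A := by
  let X : Subgroup G := ⨆ c ∈ {c | IsMax P c}, c.1
  have hXA : X ≤ A := iSup₂_le fun c hc => IsMax.le_left hS hF hc
  have hbX : b.1 ≤ X := le_iSup₂_of_le (f := fun c (_ : c ∈ {c | IsMax P c}) => c.1) b hb le_rfl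
  refine (hS.irred X hXA fun g hg => ?_).resolve_left fun e =>
    IsMax.left_ne_bot hS hF hb (le_bot_iff.1 (hbX.trans e.le))
  have key : ∀ n ∈ normalizer (A : Set G),
      cj n (⨆ c ∈ {c | IsMax P c}, c.1) ≤ ⨆ c ∈ {c | IsMax P c}, c.1 := by
    intro n hn
    show Subgroup.map _ _ ≤ _
    simp only [Subgroup.map_iSup]
    exact iSup₂_le fun c hc => le_iSup₂_of_le (cj n c.1, cj n c.2) (IsMax.conj hS hF hc hn) le_rfl
  refine le_antisymm (key g hg) ?_
  conv_lhs => rw [← cj_inv_cancel g X]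
  exact map_mono (key g⁻¹ (inv_mem hg))

theorem IsMax.right_eq (hb : IsMax P b) (h8 : 8 < Nat.card A) :
    b.2 = ⨆ c ∈ {c | IsMax P c ∧ c ≠ b}, c.1 := by
  have hle : (⨆ c ∈ {c | IsMax P c ∧ c ≠ b}, c.1) ≤ b.2 := iSup₂_le fun c hc =>
    (IsMax.orth hS hF hb hc.1 hc.2.symm (IsMax.meet hS hF hb hc.1 h8)).1
  refine le_antisymm ?_ hle
  set X := ⨆ c ∈ {c | IsMax P c ∧ c ≠ b}, c.1 with hX
  have hsup : A ≤ b.1 ⊔ X := by
    rw [← span_max hS hF hb]
    refine iSup₂_le fun c hc => ?_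
    by_cases e : c = b
    · rw [e]; exact le_sup_left
    · exact le_sup_of_le_right (le_iSup₂_of_le c ⟨hc, e⟩ le_rfl)
  have h1 := card_le_of_le hsup
  rw [← IsMax.sup_eq hS hF hb, card_sup_of_disjoint hS (IsMax.le_left hS hF hb) (IsMax.le_right hS hF hb)
      (IsMax.inf_eq hS hF hb),
    card_sup_of_disjoint hS (IsMax.le_left hS hF hb) (hle.trans (IsMax.le_right hS hF hb))
      (le_bot_iff.1 ((inf_le_inf_left _ hle).trans (IsMax.inf_eq hS hF hb).le))] at h1
  exact (eq_of_le_of_card_ge hle (Nat.le_of_mul_le_mul_left h1 Nat.card_pos)).ge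

theorem exists_three (hb : IsMax P b) (h8 : 8 < Nat.card A) :
    ∃ c e, IsMax P c ∧ IsMax P e ∧ b ≠ c ∧ b ≠ e ∧ c ≠ e := by
  obtain ⟨g, hg, hmove⟩ := kernel_not_invariant hS hF hb
  have hc : IsMax P (cj g b.1, cj g b.2) := IsMax.conj hS hF hb hg
  have hne : b ≠ (cj g b.1, cj g b.2) := fun e => hmove (congrArg Prod.snd e).symm
  by_contra hno
  have hle : b.2 ≤ cj g b.1 := by
    rw [IsMax.right_eq hS hF hb h8]
    refine iSup₂_le fun e he => ?_
    by_cases h' : e = (cj g b.1, cj g b.2)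
    · rw [h']
    · exact absurd ⟨_, e, hc, he.1, hne, he.2.symm, Ne.symm h'⟩ hno
  have h1 := card_le_of_le hle
  have := IsMax.big hS hF hb h8
  rw [cj_card] at h1
  omega

theorem IsMax.rank_ge (hb : IsMax P b) (h8 : 8 < Nat.card A) : 16 ≤ Nat.card b.2 := by
  obtain ⟨c, e, hc, he, hbc, hbe, hce⟩ := exists_three hS hF hb h8
  have h1 := (IsMax.orth hS hF hb hc hbc (IsMax.meet hS hF hb hc h8)).1
  have h2 := (IsMax.orth hS hF hb he hbe (IsMax.meet hS hF hb he h8)).1
  have h3 := (IsMax.orth hS hF hc he hce (IsMax.meet hS hF hc he h8)).1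
  have hd : c.1 ⊓ e.1 = ⊥ := le_bot_iff.1 ((inf_le_inf_left _ h3).trans (IsMax.inf_eq hS hF hc).le)
  have h4 := card_le_of_le (sup_le h1 h2)
  rw [card_sup_of_disjoint hS (IsMax.le_left hS hF hc) (IsMax.le_left hS hF he) hd] at h4
  obtain ⟨a, ha, -⟩ := hc
  obtain ⟨a', ha', -⟩ := he
  exact le_trans (Nat.mul_le_mul (hF.four ha) (hF.four ha')) h4

theorem below_max (h8 : 8 < Nat.card A) (hb : IsMax P b) {a : G} {V C : Subgroup G} (h : P a V C) :
    ∃ l, IsMax P l ∧ V ≤ l.1 ∧ l.2 ≤ C := by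
  by_contra hno
  push Not at hno
  have hall : ∀ l, IsMax P l → V ≤ l.2 := by
    intro l hl
    obtain ⟨a₀, ha₀, hmax⟩ := id hl
    have hm : C ⊓ l.2 ≠ ⊥ := by
      intro e
      have hle : Nat.card C * Nat.card l.2 ≤ Nat.card A := by
        rw [← card_sup_of_disjoint hS (Facts.le_right hS hF h) (IsMax.le_right hS hF hl) e]
        exact card_le_of_le (sup_le (Facts.le_right hS hF h) (IsMax.le_right hS hF hl))
      rw [← Facts.card_mul hS hF h, mul_comm (Nat.card V)] at hle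
      have h1 := Nat.le_of_mul_le_mul_left hle Nat.card_pos
      have h2 := hmax _ _ _ h
      have := IsMax.big hS hF hl h8
      omega
    obtain ⟨⟨u, hu⟩, hu1⟩ := ne_bot_iff_exists_ne_one.1 hm
    replace hu1 : u ≠ 1 := fun e => hu1 (Subtype.ext e)
    obtain ⟨V', C', h', hV, hC⟩ := hF.pump h hu.1 hu1
    rcases hF.same ((IsMax.stable hS hF hl).2 u hu.2 hu1) h' with e | e
    · exact absurd (e.2 ▸ hC) (hno l hl (e.1 ▸ hV))
    · exact hV.trans e.1
  have hX : V ≤ A ⊓ ⨅ l ∈ {l | IsMax P l}, l.2 :=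
    le_inf (Facts.le_left hS hF h) (le_iInf₂ hall)
  have key : ∀ n ∈ normalizer (A : Set G), cj n (A ⊓ ⨅ l ∈ {l | IsMax P l}, l.2) ≤
      A ⊓ ⨅ l ∈ {l | IsMax P l}, l.2 := by
    intro n hn
    refine le_inf ((map_mono inf_le_left).trans (hS.conj_A hn).le) (le_iInf₂ fun l hl => ?_)
    refine (map_mono (inf_le_right.trans (iInf₂_le (cj n⁻¹ l.1, cj n⁻¹ l.2)
      (IsMax.conj hS hF hl (inv_mem hn))))).trans ?_
    exact (cj_inv_cancel n l.2).le
  rcases hS.irred _ inf_le_left (fun n hn => le_antisymm (key n hn) (by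
      conv_lhs => rw [← cj_inv_cancel n (A ⊓ ⨅ l ∈ {l | IsMax P l}, l.2)]
      exact map_mono (key n⁻¹ (inv_mem hn)))) with e | e
  · exact Facts.left_ne_bot hS hF h (le_bot_iff.1 (e ▸ hX))
  · refine IsMax.right_ne_top hS hF hb (le_antisymm (IsMax.le_right hS hF hb) ?_)
    exact e.ge.trans (inf_le_right.trans (iInf₂_le b hb))

end Max

/-- Slice II. -/
theorem dichotomy : Dichotomy.{u} := by
  intro G _ _ S A P hS hF h8 hex
  obtain ⟨b, hb⟩ := exists_max hF hex
  refine ⟨{c | IsMax P c}, ⟨fun c hc => IsMax.stable hS hF hc, fun c hc => IsMax.sup_eq hS hF hc,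
    fun c hc => IsMax.inf_eq hS hF hc,
    fun c hc e he hne => (IsMax.orth hS hF hc he hne (IsMax.meet hS hF hc he h8)).1,
    fun c hc e he => IsMax.meet hS hF hc he h8, span_max hS hF hb, ?_,
    fun c hc => IsMax.rank_ge hS hF hc h8, fun c hc n hn => IsMax.conj hS hF hc hn,
    fun h => below_max hS hF h8 hb h⟩⟩
  obtain ⟨c, e, hc, he, h1, h2, h3⟩ := exists_three hS hF hb h8
  exact ⟨b, hb, c, hc, e, he, h1, h2, h3⟩

end CfsgLib.Invol.Goldschmidt
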