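import Cfsg.Agent.Lib.Invol.Goldschmidt.Dichotomy
import Cfsg.Agent.Lib.Signalizer.Count

/-!
Owner: helper2. S1169, `|A| = 8` with a moved component: kernels are points and `N(A)/C(A)` has order 21.
-/

set_option autoImplicit false
set_option linter.style.haveILetI false
set_option linter.unusedSectionVars false

namespace CfsgLib.Invol.Goldschmidt

open Subgroup

universe u

variable {G : Type u} [Group G] [Finite G] {S : Sylow 2 G} {A : Subgroup G}
  {P : G → Subgroup G → Subgroup G → Prop}

theorem pair_eight (hS : Setting S A) (hF : Facts A P) (h8 : Nat.card A = 8) {a : G} {V C : Subgroup G}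
    (h : P a V C) : C = zpowers a ∧ Nat.card V = 4 := by
  obtain ⟨ha, ha1⟩ := hF.mem h
  have hm := Facts.card_mul hS hF h
  have hC1 : Nat.card C ≠ 1 := fun e => Facts.right_ne_bot hS hF h (eq_bot_of_card_eq C e)
  have hCpos := Nat.card_pos (α := C)
  have hV := hF.four h
  rw [h8] at hm
  have hV4 : Nat.card V = 4 := by
    have : Nat.card V * 2 ≤ 8 := hm ▸ Nat.mul_le_mul_left _ (by omega)
    omega
  refine ⟨?_, hV4⟩
  rw [hV4] at hm
  have ho : orderOf a = 2 :=
    orderOf_eq_prime (by rw [pow_two]; exact hS.sq (Facts.le_right hS hF h ha)) ha1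
  exact (eq_of_le_of_card_ge (zpowers_le.2 ha) (by rw [Nat.card_zpowers, ho]; omega)).symm

section Action

/-- Conjugation by elements of `K ≤ N(X)` on the non-identity elements of `X`. -/
def permOn (K X : Subgroup G) (hK : K ≤ normalizer (X : Set G)) : K →* Equiv.Perm {x : G // x ∈ X ∧ x ≠ 1} where
  toFun k :=
    { toFun := fun x => ⟨(k : G) * x * (k : G)⁻¹, (mem_normalizer_iff.1 (hK k.2) _).1 x.2.1,
        fun e => x.2.2 (conj_eq_one_iff.1 e)⟩
      invFun := fun x => ⟨(k : G)⁻¹ * x * k, (mem_normalizer_iff''.1 (hK k.2) _).1 x.2.1,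
        fun e => x.2.2 (by
          have := congrArg (fun w => (k : G) * w * (k : G)⁻¹) e
          simpa [mul_assoc] using this)⟩
      left_inv := fun x => Subtype.ext (by simp [mul_assoc])
      right_inv := fun x => Subtype.ext (by simp [mul_assoc]) }
  map_one' := Equiv.ext fun x => Subtype.ext (by simp)
  map_mul' k l := Equiv.ext fun x => Subtype.ext (by simp [mul_assoc])

theorem permOn_apply {K X : Subgroup G} (hK : K ≤ normalizer (X : Set G)) (k : K)
    (x : {x : G // x ∈ X ∧ x ≠ 1}) : (permOn K X hK k x : G) = (k : G) * x * (k : G)⁻¹ := rfl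

theorem mem_ker_permOn {K X : Subgroup G} (hK : K ≤ normalizer (X : Set G)) (k : K) :
    k ∈ (permOn K X hK).ker ↔ ∀ x ∈ X, (k : G) * x * (k : G)⁻¹ = x := by
  rw [MonoidHom.mem_ker]
  constructor
  · intro h x hx
    rcases eq_or_ne x 1 with rfl | hx1
    · simp
    · exact congrArg Subtype.val (Equiv.ext_iff.1 h ⟨x, hx, hx1⟩)
  · exact fun h => Equiv.ext fun x => Subtype.ext (h _ x.2.1)

theorem card_range_permOn {K X : Subgroup G} (hK : K ≤ normalizer (X : Set G)) {D : Subgroup G}
    (hD : ∀ k : K, (k : G) ∈ D ↔ ∀ x ∈ X, (k : G) * x * (k : G)⁻¹ = x) :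
    Nat.card (permOn K X hK).range = D.relIndex K := by
  rw [← index_ker, relIndex]
  congr 1
  ext k
  rw [mem_ker_permOn, mem_subgroupOf, hD]

theorem mem_centralizer_iff_conj {X : Subgroup G} {g : G} :
    g ∈ centralizer (X : Set G) ↔ ∀ x ∈ X, g * x * g⁻¹ = x := by
  rw [mem_centralizer_iff]
  refine forall₂_congr fun x _ => ⟨fun e => ?_, fun e => ?_⟩
  · rw [← e, mul_inv_cancel_right]
  · nth_rw 1 [← e]
    rw [inv_mul_cancel_right]

/-- A subgroup transitive on a finite set moves it in a range of order divisible by its size. -/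
theorem card_dvd_of_transitive {X : Type*} [Finite X] [Nonempty X] (R : Subgroup (Equiv.Perm X))
    (h : ∀ x y : X, ∃ r ∈ R, r x = y) : Nat.card X ∣ Nat.card R := by
  haveI : MulAction.IsPretransitive R X := ⟨fun x y => by
    obtain ⟨r, hr, e⟩ := h x y
    exact ⟨⟨r, hr⟩, e⟩⟩
  obtain ⟨x⟩ := (inferInstance : Nonempty X)
  rw [← MulAction.index_stabilizer_of_transitive R (X := X) (x := x)]
  exact index_dvd_card _

end Action

/-- `|A| = 8` with a moved component: `N(A)` is transitive on the involutions of `A`. -/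
theorem eight_transitive (hS : Setting S A) (hF : Facts A P) (h8 : Nat.card A = 8) {a : G} {V C : Subgroup G}
    (h : P a V C) :
    ∀ y ∈ A, y ≠ 1 → ∃ n ∈ normalizer (A : Set G), n * a * n⁻¹ = y := by
  classical
  obtain ⟨hC, hV4⟩ := pair_eight hS hF h8 h
  obtain ⟨haC, ha1⟩ := hF.mem h
  have hVA := Facts.le_left hS hF h
  have haA : a ∈ A := Facts.le_right hS hF h haC
  let O : G → Prop := fun y => ∃ n ∈ normalizer (A : Set G), n * a * n⁻¹ = y
  have hOconj : ∀ g ∈ normalizer (A : Set G), ∀ y, O y → O (g * y * g⁻¹) := by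
    rintro g hg y ⟨n, hn, rfl⟩
    exact ⟨g * n, mul_mem hg hn, by group⟩
  have hOa : O a := ⟨1, one_mem _, by simp⟩
  have htwo : ∀ c ∈ C, c = 1 ∨ c = a := by
    intro c hc
    rw [hC, mem_zpowers_iff] at hc
    obtain ⟨i, rfl⟩ := hc
    have h2 : orderOf a = 2 := orderOf_eq_prime (by rw [pow_two]; exact hS.sq haA) ha1
    rw [← zpow_mod_orderOf, h2]
    rcases Int.emod_two_eq_zero_or_one i with e | e <;> simp [e]
  have hparts : ∀ y ∈ A, ∃ v ∈ V, y = v ∨ y = v * a := by
    intro y hy
    have hn : V ≤ normalizer (C : Set G) := fun k hk => mem_normalizer_iff.2 fun z => by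
      constructor
      · intro hz
        rwa [hS.comm (hVA hk) (Facts.le_right hS hF h hz), mul_inv_cancel_right]
      · intro hz
        have h1 : z = k⁻¹ * (k * z * k⁻¹) * k := by group
        rw [h1, hS.comm (inv_mem (hVA hk)) (Facts.le_right hS hF h hz), inv_mul_cancel_right]
        exact hz
    obtain ⟨v, hv, c, hc, e⟩ := (CfsgLib.Core.mem_sup_iff_mul hn).1 ((hF.sup h).symm ▸ hy)
    rcases htwo c hc with rfl | rfl
    · exact ⟨v, hv, .inl (by rw [e, mul_one])⟩
    · exact ⟨v, hv, .inr e⟩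
  have hmove : ∀ v ∈ V, v ≠ 1 → ∀ w ∈ V, w ≠ 1 → ∀ f : G → G, (f = id ∨ f = fun z => z * a) → O (f v) → O (f w) := by
    intro v hv hv1 w hw hw1 f hf hO
    obtain ⟨g, hg, -, hgC, hgv, -⟩ := hF.homology h v hv hv1 w hw hw1
    have := hOconj g hg _ hO
    rcases hf with rfl | rfl
    · simpa [hgv] using this
    · simpa [show g * (v * a) * g⁻¹ = (g * v * g⁻¹) * (g * a * g⁻¹) by group, hgv, hgC a haC] using this
  have hnotinv : ¬ ∀ g ∈ normalizer (A : Set G), ∀ v ∈ V, g * v * g⁻¹ ∈ V := by
    intro hinv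
    rcases hS.irred V hVA (fun g hg => eq_of_le_of_card_ge
      (fun x hx => by obtain ⟨v, hv, rfl⟩ := hx; exact hinv g hg v hv) (cj_card g V).ge) with e | e
    · exact Facts.left_ne_bot hS hF h e
    · rw [e, h8] at hV4; omega
  have hVO : ∀ v ∈ V, v ≠ 1 → O v := by
    by_contra hno
    push Not at hno
    obtain ⟨v₀, hv₀, hv₀1, hv₀O⟩ := hno
    have hVno : ∀ v ∈ V, v ≠ 1 → ¬ O v := fun v hv hv1 hO => hv₀O (hmove v hv hv1 v₀ hv₀ hv₀1 id (.inl rfl) hO)
    have hex : ∃ v ∈ V, v ≠ 1 ∧ O (v * a) := by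
      by_contra hno'
      push Not at hno'
      have hfix : ∀ g ∈ normalizer (A : Set G), g * a * g⁻¹ = a := by
        intro g hg
        obtain ⟨v, hv, e | e⟩ := hparts _ ((mem_normalizer_iff.1 hg a).1 haA)
        · by_cases hv1 : v = 1
          · exact absurd (conj_eq_one_iff.1 (e.trans hv1)) ha1
          · exact absurd ⟨g, hg, e⟩ (hVno v hv hv1)
        · by_cases hv1 : v = 1
          · rw [e, hv1, one_mul]
          · exact absurd ⟨g, hg, e⟩ (hno' v hv hv1)
      rcases hS.irred C (Facts.le_right hS hF h) (fun g hg =>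
        CfsgLib.DisjointKernels.cj_eq_self fun c hc => by
          rcases htwo c hc with rfl | rfl
          · simp
          · exact hfix g hg) with e | e
      · exact Facts.right_ne_bot hS hF h e
      · exact Facts.right_ne_top hS hF h e
    obtain ⟨v₁, hv₁, hv₁1, hv₁O⟩ := hex
    refine hnotinv fun g hg v hv => ?_
    rcases eq_or_ne v 1 with rfl | hv1
    · simpa using one_mem V
    obtain ⟨w, hw, e | e⟩ := hparts _ ((mem_normalizer_iff.1 hg v).1 (hVA hv))
    · exact e ▸ hw
    · exfalso
      have hO : O (g * v * g⁻¹) := by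
        rcases eq_or_ne w 1 with rfl | hw1
        · rw [e, one_mul]; exact hOa
        · rw [e]; exact hmove v₁ hv₁ hv₁1 w hw hw1 (fun z => z * a) (.inr rfl) hv₁O
      have := hOconj g⁻¹ (inv_mem hg) _ hO
      rw [show g⁻¹ * (g * v * g⁻¹) * g⁻¹⁻¹ = v by group] at this
      exact hVno v hv hv1 this
  have hVaO : ∀ v ∈ V, v ≠ 1 → O (v * a) := by
    by_contra hno
    push Not at hno
    obtain ⟨v₀, hv₀, hv₀1, hv₀O⟩ := hno
    have hno' : ∀ v ∈ V, v ≠ 1 → ¬ O (v * a) := fun v hv hv1 hO =>
      hv₀O (hmove v hv hv1 v₀ hv₀ hv₀1 (fun z => z * a) (.inr rfl) hO)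
    refine hnotinv fun g hg v hv => ?_
    rcases eq_or_ne v 1 with rfl | hv1
    · simpa using one_mem V
    obtain ⟨w, hw, hwn⟩ : ∃ w ∈ V, w ∉ ({1, v} : Finset G) := by
      by_contra hc
      push Not at hc
      have h1 := Set.ncard_le_ncard (show (V : Set G) ⊆ (({1, v} : Finset G) : Set G) from fun x hx => hc x hx)
        (Set.toFinite _)
      rw [Set.ncard_coe_finset, ← Nat.card_coe_set_eq] at h1
      have := h1.trans Finset.card_le_two
      exact absurd (hV4 ▸ this : (4 : ℕ) ≤ 2) (by norm_num)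
    simp only [Finset.mem_insert, Finset.mem_singleton, not_or] at hwn
    have hwv : w * v ≠ 1 := fun e => hwn.2 (by
      rw [eq_inv_of_mul_eq_one_left e, inv_eq_of_mul_eq_one_right (hS.sq (hVA hv))])
    have himg : ∀ z ∈ V, z ≠ 1 → ∃ u ∈ V, g * (z * a) * g⁻¹ = u * a := by
      intro z hz hz1
      obtain ⟨u, hu, e | e⟩ := hparts _ ((mem_normalizer_iff.1 hg _).1 (mul_mem (hVA hz) haA))
      · exfalso
        rcases eq_or_ne u 1 with rfl | hu1
        · refine hwn.1 ?_
          exfalso
          have hza : z * a = 1 := conj_eq_one_iff.1 e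
          have : z ∈ V ⊓ C := ⟨hz, by rw [eq_inv_of_mul_eq_one_left hza]; exact C.inv_mem haC⟩
          rw [hF.inf h, mem_bot] at this
          exact hz1 this
        · have := hOconj g⁻¹ (inv_mem hg) _ (e ▸ hVO u hu hu1 : O (g * (z * a) * g⁻¹))
          rw [show g⁻¹ * (g * (z * a) * g⁻¹) * g⁻¹⁻¹ = z * a by group] at this
          exact hno' z hz hz1 this
      · exact ⟨u, hu, e⟩
    obtain ⟨u₁, hu₁, e₁⟩ := himg w hw hwn.1
    obtain ⟨u₂, hu₂, e₂⟩ := himg (w * v) (mul_mem hw hv) hwv
    have hww := hS.sq (hVA hw)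
    have haa := hS.sq haA
    have hv' : v = w * a * (w * v * a) := by
      calc v = w * w * (a * a) * v := by rw [hww, haa, one_mul, one_mul]
        _ = w * (w * a) * (a * v) := by group
        _ = w * (a * w) * (v * a) := by rw [hS.comm haA (hVA hv), hS.comm haA (hVA hw)]
        _ = w * a * (w * v * a) := by group
    have : g * v * g⁻¹ = u₁ * u₂ := by
      calc g * v * g⁻¹ = g * (w * a) * g⁻¹ * (g * (w * v * a) * g⁻¹) := by
            conv_lhs => rw [hv']
            group
        _ = u₁ * a * (u₂ * a) := by rw [e₁, e₂]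
        _ = u₁ * (a * u₂) * a := by group
        _ = u₁ * (u₂ * a) * a := by rw [hS.comm haA (hVA hu₂)]
        _ = u₁ * u₂ := by
          rw [← mul_assoc, mul_assoc _ a a, haa, mul_one]
    exact this ▸ mul_mem hu₁ hu₂
  intro y hy hy1
  obtain ⟨v, hv, rfl | rfl⟩ := hparts y hy
  · exact hVO _ hv hy1
  · rcases eq_or_ne v 1 with rfl | hv1
    · rw [one_mul]; exact hOa
    · exact hVaO v hv hv1

/-- `|A| = 8` with a moved component: `N(A)/C(A)` has order 21. -/
theorem eight_relIndex (hS : Setting S A) (hF : Facts A P) (h8 : Nat.card A = 8) {a : G} {V C : Subgroup G}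
    (h : P a V C) : (centralizer (A : Set G)).relIndex (normalizer (A : Set G)) = 21 := by
  classical
  haveI : Fact (Nat.Prime 2) := ⟨Nat.prime_two⟩
  obtain ⟨hC, hV4⟩ := pair_eight hS hF h8 h
  obtain ⟨haC, ha1⟩ := hF.mem h
  have haA : a ∈ A := Facts.le_right hS hF h haC
  set N := normalizer (A : Set G) with hN
  let ρ := permOn N A le_rfl
  let X := {x : G // x ∈ A ∧ x ≠ 1}
  have hX : Nat.card X = 7 := by
    rw [show Nat.card X = Nat.card A - 1 from CfsgLib.DisjointKernels.card_nonidentity A, h8]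
  have hρ : Nat.card ρ.range = (centralizer (A : Set G)).relIndex N :=
    card_range_permOn _ fun k => mem_centralizer_iff_conj
  have htr := eight_transitive hS hF h8 h
  -- the stabiliser of `a`
  let N0 : Subgroup G := N ⊓ centralizer ({a} : Set G)
  have hN0V : N0 ≤ normalizer (V : Set G) := by
    intro n hn
    have hcC : cj n C = C := by
      refine CfsgLib.DisjointKernels.cj_eq_self fun c hc => ?_
      have hn' : C ≤ centralizer ({n} : Set G) := by
        rw [hC, zpowers_le, mem_centralizer_singleton_iff]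
        exact (mem_centralizer_singleton_iff.1 hn.2).symm
      rw [← mem_centralizer_singleton_iff.1 (hn' hc), mul_inv_cancel_right]
    have hnn : n * a * n⁻¹ = a := by rw [mem_centralizer_singleton_iff.1 hn.2, mul_inv_cancel_right]
    have h' := hF.conj h n hn.1
    rw [hnn, hcC] at h'
    have e : cj n V = V := (Facts.eq_of_kernel_eq hS hF h h').symm
    refine mem_normalizer_iff.2 fun x => ?_
    constructor
    · intro hx
      rw [← e]
      exact ⟨x, hx, rfl⟩
    · intro hx
      rw [← e] at hx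
      obtain ⟨y, hy, hye⟩ := hx
      have : y = x := (MulAut.conj n).injective hye
      exact this ▸ hy
  have hC0 : centralizer (A : Set G) ≤ N0 :=
    le_inf (centralizer_le_normalizer _) (centralizer_le (by simpa using haA))
  have hN07 : N0.relIndex N = 7 := by
    letI : MulAction N X := MulAction.compHom X ρ
    haveI : MulAction.IsPretransitive N X := by
      refine (MulAction.isPretransitive_iff_base (⟨a, haA, ha1⟩ : X)).2 fun y => ?_
      obtain ⟨n, hn, e⟩ := htr y y.2.1 y.2.2
      exact ⟨⟨n, hn⟩, Subtype.ext e⟩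
    rw [← hX, ← MulAction.index_stabilizer_of_transitive N (x := (⟨a, haA, ha1⟩ : X)), relIndex]
    congr 1
    ext n
    rw [mem_subgroupOf, MulAction.mem_stabilizer_iff]
    constructor
    · intro hn
      refine Subtype.ext ?_
      show (n : G) * a * (n : G)⁻¹ = a
      rw [mem_centralizer_singleton_iff.1 hn.2, mul_inv_cancel_right]
    · intro hn
      have e : (n : G) * a * (n : G)⁻¹ = a := congrArg Subtype.val hn
      exact ⟨n.2, mem_centralizer_singleton_iff.2 (mul_inv_eq_iff_eq_mul.1 e)⟩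
  -- the image of the stabiliser on `V`
  let σ := permOn N0 V hN0V
  have hσ : Nat.card σ.range = (centralizer (A : Set G)).relIndex N0 := by
    refine card_range_permOn _ fun k => ⟨fun hk x hx => mem_centralizer_iff_conj.1 hk x
      (Facts.le_left hS hF h hx), fun hk => mem_centralizer_iff.2 fun x hx => ?_⟩
    have hsup : A ≤ centralizer ({(k : G)} : Set G) := by
      rw [← hF.sup h]
      refine sup_le (fun v hv => mem_centralizer_singleton_iff.2 ?_) ?_
      · exact (mul_inv_eq_iff_eq_mul.1 (hk v hv)).symm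
      · rw [hC, zpowers_le, mem_centralizer_singleton_iff]
        exact (mem_centralizer_singleton_iff.1 k.2.2).symm
    exact mem_centralizer_singleton_iff.1 (hsup hx)
  have hY : Nat.card {x : G // x ∈ V ∧ x ≠ 1} = 3 := by
    rw [CfsgLib.DisjointKernels.card_nonidentity, hV4]
  have h6 : (centralizer (A : Set G)).relIndex N0 ∣ 6 := by
    rw [← hσ]
    refine (card_subgroup_dvd_card _).trans ?_
    rw [Nat.card_perm, hY]
    norm_num [Nat.factorial]
  have h3 : 3 ∣ (centralizer (A : Set G)).relIndex N0 := by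
    haveI : Nonempty {x : G // x ∈ V ∧ x ≠ 1} := (Nat.card_pos_iff.1 (by rw [hY]; norm_num)).1
    rw [← hσ, ← hY]
    refine card_dvd_of_transitive _ fun x y => ?_
    obtain ⟨g, hg, -, hgC, hgv, -⟩ := hF.homology h x x.2.1 x.2.2 y y.2.1 y.2.2
    refine ⟨σ ⟨g, hg, mem_centralizer_singleton_iff.2 (mul_inv_eq_iff_eq_mul.1 (hgC a haC))⟩,
      ⟨_, rfl⟩, Subtype.ext hgv⟩
  have hmul := relIndex_mul_relIndex _ _ _ hC0 (inf_le_left : N0 ≤ N)
  rw [hN07] at hmul
  obtain ⟨c, hc⟩ := h3
  obtain ⟨d, hd⟩ := h6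
  have hc12 : c = 1 ∨ c = 2 := by
    rw [hc] at hd
    have : c * d = 2 := by linarith
    exact (Nat.dvd_prime Nat.prime_two).1 ⟨d, this.symm⟩
  rcases hc12 with rfl | rfl
  · omega
  exfalso
  -- order 42: a subgroup of index two
  have h42 : Nat.card ρ.range = 42 := by rw [hρ]; omega
  obtain ⟨T⟩ := (inferInstance : Nonempty (Sylow 2 ρ.range))
  have hT : Nat.card T = 2 := by
    rw [T.card_eq_multiplicity, h42, show (42 : ℕ) = 2 ^ 1 * 21 from rfl,
      Nat.factorization_mul (by norm_num) (by norm_num), Finsupp.add_apply,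
      Nat.Prime.factorization_pow Nat.prime_two, Finsupp.single_eq_same,
      Nat.factorization_eq_zero_of_not_dvd (show ¬ 2 ∣ 21 by norm_num)]
    norm_num
  haveI : IsCyclic (T : Subgroup ρ.range) := isCyclic_of_prime_card (p := 2) hT
  obtain ⟨H, hH⟩ := CfsgLib.Signalizer.index_two_of_cyclic_sylow (by rw [h42]; decide) T inferInstance
  refine hS.no_two ((H.comap ρ.rangeRestrict).map N.subtype) ?_ (map_subtype_le _) ?_
  · intro g hg
    refine ⟨⟨g, centralizer_le_normalizer _ hg⟩, ?_, rfl⟩
    show ρ.rangeRestrict _ ∈ H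
    rw [show ρ.rangeRestrict ⟨g, centralizer_le_normalizer _ hg⟩ = 1 from Subtype.ext
      ((mem_ker_permOn le_rfl ⟨g, centralizer_le_normalizer _ hg⟩).2 (mem_centralizer_iff_conj.1 hg))]
    exact one_mem H
  · rw [relIndex, subgroupOf, comap_map_eq_self_of_injective N.subtype_injective, index_comap_of_surjective _ ρ.rangeRestrict_surjective, hH]

end CfsgLib.Invol.Goldschmidt
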