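import Cfsg.Agent.Lib.Invol.Goldschmidt.Cases
import Cfsg.Agent.Lib.Invol.Goldschmidt.BlockStepGroup
import Cfsg.Agent.Lib.Signalizer.LocalKBalance
import Cfsg.Agent.S0217

/-!
Owner: helper16. S1169, slice IV: if no component of a centraliser is moved, the cores of the centralisers form a
signalizer functor and some proper subgroup contains `N(A)` and every `C(a)`.

* `noPair`.
-/

set_option autoImplicit false
set_option linter.style.haveILetI false
set_option linter.unusedSectionVars false

namespace CfsgLib.Invol.Goldschmidt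

open Subgroup
open CfsgLib.FTDep (coreCent)
open CfsgLib.Signalizer (elementary_comm)

universe u

/-- `O(C⟨a⟩) = O(C(a))`. -/
theorem coreCent_zpowers {G : Type u} [Group G] [Finite G] (a : G) :
    coreCent ((zpowers a : Subgroup G) : Set G) = coreCent ({a} : Set G) :=
  have h : centralizer ((zpowers a : Subgroup G) : Set G) = centralizer ({a} : Set G) := by
    rw [zpowers_eq_closure, centralizer_closure]
  le_antisymm (BlockAux.coreCent_congr h) (BlockAux.coreCent_congr h.symm)

/-- Slice IV. -/
theorem noPair : NoPair.{u} := by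
  intro G _ _ S A P hs hf h8 hno
  haveI := hs.simple
  haveI : Fact (Nat.Prime 2) := ⟨Nat.prime_two⟩
  set θ : G → Subgroup G := fun a => coreCent ({a} : Set G) with hθ
  obtain ⟨hodd, hW⟩ := Cfsg.Agent.S0217.result A (fun _ hx _ hy => elementary_comm hs.elem hx hy)
    hs.elem.2 (le_trans (by norm_num) h8) θ (fun a _ _ => FTDep.coreCent_le _)
    (fun a _ _ h => Nat.not_even_iff_odd.2 (FTDep.coreCent_odd _) (even_iff_two_dvd.2 h))
    (fun a ha _ b hb x hx => CfsgLib.Core.conj_mem_of_le_normalizer (A := A)
      ((fun y hy => mem_centralizer_singleton_iff.2 (elementary_comm hs.elem hy ha)) |> fun h : A ≤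
        centralizer ({a} : Set G) => h.trans (FTDep.coreCent_norm _)) hb hx)
    (fun a _ _ => BlockAux.coreCent_solvable _)
    (fun a ha ha1 b hb hb1 x hx => by
      refine hf.weight (zpowers a) (zpowers_le.2 ha) (fun e => ha1 (zpowers_eq_bot.1 e)) x ?_ b hb hb1
        (mem_centralizer_singleton_iff.1 hx.2) fun V C hP => absurd hP (hno b V C)
      rw [coreCent_zpowers]
      exact hx.1)
  set W := ⨆ a : {a : G // a ∈ A ∧ a ≠ 1}, θ a with hWdef
  have hθW : ∀ a ∈ A, a ≠ 1 → θ a ≤ W := fun a ha ha1 =>
    le_iSup (fun a : {a : G // a ∈ A ∧ a ≠ 1} => θ a) ⟨a, ha, ha1⟩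
  -- `N(A)` permutes the cores
  have hNW : normalizer (A : Set G) ≤ normalizer (W : Set G) := by
    rw [le_normalizer_iff]
    intro n hn x hx
    suffices h : W ≤ W.comap (MulAut.conj n).toMonoidHom from h hx
    refine iSup_le fun a y hy => mem_comap.2 (hθW (n * a * n⁻¹) ((mem_normalizer_iff.1 hn a).1 a.2.1)
      (fun e => a.2.2 (conj_eq_one_iff.1 e)) ?_)
    exact CfsgLib.Signalizer.mem_centralizerPPrimeCore_map (MulAut.conj n) hy
  by_cases hW1 : W = ⊥
  · refine ⟨normalizer (A : Set G), fun htop => ?_, le_rfl, fun a ha ha1 =>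
      hf.cover a ha ha1 _ (((hθW a ha ha1).trans hW1.le).trans bot_le) le_rfl
        fun V C hP => absurd hP (hno a V C)⟩
    haveI : A.Normal := normalizer_eq_top_iff.1 htop
    rcases (inferInstance : A.Normal).eq_bot_or_eq_top with h | h
    · rw [h, card_bot] at h8
      omega
    · exact hs.noncomm ⟨⟨fun x y => Subtype.ext (elementary_comm hs.elem (h ▸ mem_top (x : G))
        (h ▸ mem_top (y : G)))⟩⟩
  · refine ⟨normalizer (W : Set G), fun htop => ?_, hNW, fun a ha ha1 =>
      hf.cover a ha ha1 _ ((hθW a ha ha1).trans le_normalizer) hNW fun V C hP => absurd hP (hno a V C)⟩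
    haveI : W.Normal := normalizer_eq_top_iff.1 htop
    rcases (inferInstance : W.Normal).eq_bot_or_eq_top with h | h
    · exact hW1 h
    · refine hodd ?_
      rw [h, card_top]
      obtain ⟨n, hn⟩ := (CfsgLib.Signalizer.elementary_isPGroup hs.elem).exists_card_eq
      have hn0 : n ≠ 0 := fun h0 => by rw [hn, h0] at h8; norm_num at h8
      exact dvd_trans (hn ▸ dvd_pow_self 2 hn0) (card_subgroup_dvd_card A)

end CfsgLib.Invol.Goldschmidt
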