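import Cfsg.Agent.Lib.TwoFusion.StructGold.Basic
import Cfsg.Agent.Lib.Transfer.Fusion
import Cfsg.Agent.S2791
import Cfsg.Agent.S1249

/-!
Owner: helper8. For the reduction of S1169: fusion of the elements of `S` is controlled by `N(A)`;
in a perfect group `N(A)` has no subgroup of index two; the elements of order at most two of `A`;
a minimal `N(A)`-invariant subgroup is strongly closed.
-/

set_option autoImplicit false

namespace CfsgLib.Invol.Goldschmidt

open Subgroup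
open scoped Pointwise
open CfsgLib.TwoFusion.StructGold (Closed)

universe u

variable {G : Type u} [Group G] [Finite G] {S : Sylow 2 G} {A : Subgroup G}

/-- `N(A)` controls the fusion of the elements of `S`. -/
theorem closed_control (h : Closed S A) {x : G} (hx : x ∈ (S : Subgroup G)) {g : G}
    (hg : g * x * g⁻¹ ∈ (S : Subgroup G)) :
    ∃ n ∈ normalizer (A : Set G), n * x * n⁻¹ = g * x * g⁻¹ := by
  haveI : Fact (Nat.Prime 2) := ⟨Nat.prime_two⟩
  obtain ⟨T, hAT, hT⟩ := Cfsg.Agent.S2791.result S A h.comm h.closed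
  have hTN : (T : Subgroup G) ≤ normalizer (A : Set G) :=
    Closed.sylow_le_normalizer ⟨h.comm, Cfsg.Agent.S1249.result S T A hAT h.closed⟩
  obtain ⟨m, hm⟩ := MulAction.exists_smul_eq ↥(normalizer (A : Set G))
    (S.subtype h.sylow_le_normalizer) (T.subtype hTN)
  rw [Sylow.smul_subtype] at hm
  have hm' : (m : G) • S = T := Sylow.subtype_injective hm
  have hST : ∀ y ∈ (S : Subgroup G), (m : G) * y * (m : G)⁻¹ ∈ (T : Subgroup G) := fun y hy => by
    rw [← hm', Sylow.coe_subgroup_smul]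
    exact smul_mem_pointwise_smul y (MulAut.conj (m : G)) _ hy
  have e : (m : G) * g * (m : G)⁻¹ * ((m : G) * x * (m : G)⁻¹) * ((m : G) * g * (m : G)⁻¹)⁻¹ =
      (m : G) * (g * x * g⁻¹) * (m : G)⁻¹ := by group
  obtain ⟨n, hn, hne⟩ := (hT {(m : G) * x * (m : G)⁻¹} (Set.singleton_subset_iff.2 (hST x hx))).2
    ((m : G) * g * (m : G)⁻¹) (by
      rw [Set.image_singleton, Set.singleton_subset_iff, SetLike.mem_coe, e]
      exact hST _ hg)
  refine ⟨(m : G)⁻¹ * n * m, mul_mem (mul_mem (inv_mem m.2) hn) m.2, ?_⟩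
  calc (m : G)⁻¹ * n * m * x * ((m : G)⁻¹ * n * m)⁻¹
      = (m : G)⁻¹ * (n * ((m : G) * x * (m : G)⁻¹) * n⁻¹) * m := by group
    _ = g * x * g⁻¹ := by rw [← hne _ rfl, e]; group

/-- In a perfect group the normalizer of `A` has no subgroup of index two. -/
theorem closed_no_two (h : Closed S A) (hperf : _root_.commutator G = ⊤) {K : Subgroup G}
    (hK : K ≤ normalizer (A : Set G)) (hidx : K.relIndex (normalizer (A : Set G)) = 2) : False := by
  haveI : Fact (Nat.Prime 2) := ⟨Nat.prime_two⟩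
  set N := normalizer (A : Set G) with hN
  haveI : (K.subgroupOf N).Normal := normal_of_index_eq_two hidx
  have h1 := CfsgLib.Transfer.commutator_inf_eq_of_controls S (H := N) h.sylow_le_normalizer
    fun x hx g hg => by
      obtain ⟨n, hn, hne⟩ := closed_control h hx (g := g⁻¹) (by simpa using hg)
      exact ⟨n⁻¹, inv_mem hn, by simpa using hne⟩
  rw [hperf, top_inf_eq] at h1
  have h2 : ⁅N, N⁆ ≤ K := by
    rw [commutator_le]
    intro a ha b hb
    have h3 := mul_mem_iff_of_index_two (H := K.subgroupOf N) hidx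
      (a := (⟨a, ha⟩ : N) * ⟨b, hb⟩) (b := (⟨a, ha⟩ : N)⁻¹ * (⟨b, hb⟩ : N)⁻¹)
    have h4 : (⟨a, ha⟩ : N) * ⟨b, hb⟩ * ((⟨a, ha⟩ : N)⁻¹ * (⟨b, hb⟩ : N)⁻¹) ∈ K.subgroupOf N := by
      rw [h3, mul_mem_iff_of_index_two hidx, mul_mem_iff_of_index_two hidx]
      simp
    simpa [mem_subgroupOf, commutatorElement_def, mul_assoc] using h4
  have hSK : (S : Subgroup G) ≤ K := (h1.le.trans inf_le_left).trans h2
  have h5 : K.relIndex N ∣ (S : Subgroup G).index :=
    (relIndex_dvd_of_le_left N hSK).trans (relIndex_dvd_index_of_le h.sylow_le_normalizer)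
  exact S.not_dvd_index (by rw [hidx] at h5; exact h5)

/-- The elements of square one of `A`. -/
def sqOne (hA : IsMulCommutative A) : Subgroup G where
  carrier := {x | x ∈ A ∧ x * x = 1}
  one_mem' := ⟨one_mem A, one_mul 1⟩
  mul_mem' := by
    rintro x y ⟨hx, hx2⟩ ⟨hy, hy2⟩
    refine ⟨mul_mem hx hy, ?_⟩
    have e : y * x = x * y := congrArg Subtype.val (hA.is_comm.comm ⟨y, hy⟩ ⟨x, hx⟩)
    calc x * y * (x * y) = x * (y * x) * y := by group
      _ = x * x * (y * y) := by rw [e]; group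
      _ = 1 := by rw [hx2, hy2, one_mul]
  inv_mem' := by
    rintro x ⟨hx, hx2⟩
    exact ⟨inv_mem hx, by rw [← mul_inv_rev, hx2, inv_one]⟩

theorem closed_sqOne (h : Closed S A) : Closed S (sqOne h.comm) := by
  refine ⟨⟨⟨fun a b => Subtype.ext (h.commute a.2.1 b.2.1).eq⟩⟩, fun x hx => h.le hx.1,
    fun x hx g hg => ⟨h.conj_mem hx.1 hg, ?_⟩⟩
  rw [show g * x * g⁻¹ * (g * x * g⁻¹) = g * (x * x) * g⁻¹ by group, hx.2, mul_one, mul_inv_cancel]

theorem sqOne_ne_bot (h : Closed S A) (hne : A ≠ ⊥) : sqOne h.comm ≠ ⊥ := fun e => by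
  haveI : Fact (Nat.Prime 2) := ⟨Nat.prime_two⟩
  haveI : Nontrivial A := A.nontrivial_iff_ne_bot.2 hne
  obtain ⟨n, hn, hcard⟩ := (S.2.to_le h.le).nontrivial_iff_card.1 inferInstance
  obtain ⟨x, hx⟩ := exists_prime_orderOf_dvd_card' (G := A) 2 (hcard ▸ dvd_pow_self 2 hn.ne')
  have hxm : (x : G) ∈ sqOne h.comm := ⟨x.2, by
    have := pow_orderOf_eq_one x
    rw [hx, pow_two] at this
    exact congrArg Subtype.val this⟩
  rw [e, mem_bot] at hxm
  rw [show x = 1 from Subtype.ext hxm, orderOf_one] at hx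
  omega

/-- A minimal nontrivial `N(A)`-invariant subgroup of `A` is strongly closed and irreducible under its
own normalizer. -/
theorem exists_irred (h : Closed S A) (hne : A ≠ ⊥) :
    ∃ X : Subgroup G, X ≤ A ∧ X ≠ ⊥ ∧ Closed S X ∧
      ∀ Y ≤ X, (∀ g ∈ normalizer (X : Set G), Y.map (MulAut.conj g).toMonoidHom = Y) → Y = ⊥ ∨ Y = X := by
  classical
  set 𝒮 : Set (Subgroup G) := {X | X ≤ A ∧ X ≠ ⊥ ∧
    ∀ g ∈ normalizer (A : Set G), X.map (MulAut.conj g).toMonoidHom = X} with h𝒮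
  have hA : A ∈ 𝒮 := ⟨le_rfl, hne, fun g hg => CfsgLib.Transfer.map_conj_eq_self_iff.2 hg⟩
  obtain ⟨X, hX⟩ := 𝒮.toFinite.exists_minimal ⟨A, hA⟩
  obtain ⟨⟨hXA, hXne, hXinv⟩, hmin⟩ := hX
  refine ⟨X, hXA, hXne, ⟨⟨⟨fun a b => Subtype.ext (h.commute (hXA a.2) (hXA b.2)).eq⟩⟩,
    hXA.trans h.le, fun x hx g hg => ?_⟩, fun Y hY hYinv => ?_⟩
  · obtain ⟨n, hn, hne'⟩ := h.exists_normalizer_conj (hXA hx) (h.conj_mem (hXA hx) hg)
    rw [← hne', ← hXinv n hn]
    exact mem_map_of_mem _ hx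
  · by_contra hcon
    push Not at hcon
    exact hcon.2 (le_antisymm hY (hmin ⟨hY.trans hXA, hcon.1,
      fun g hg => hYinv g (CfsgLib.Transfer.map_conj_eq_self_iff.1 (hXinv g hg))⟩ hY))

end CfsgLib.Invol.Goldschmidt
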