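import Cfsg.Agent.Lib.Invol.Goldschmidt.Cases
import Cfsg.Agent.Lib.Invol.Goldschmidt.ReductionFusion
import Cfsg.Agent.Lib.Classical.AbelianSylowTwo
import Mathlib.GroupTheory.Commutator.Basic

/-!
Owner: helper8. The reduction of S1169 to a minimal counterexample (`ReductionStep`).
-/

set_option autoImplicit false

namespace CfsgLib.Invol.Goldschmidt

open Subgroup
open scoped commutatorElement
open CfsgLib.TwoFusion.StructGold (Closed)

universe u

theorem commutator_eq_top_of_simple {G : Type u} [Group G] [IsSimpleGroup G] (hna : ¬ IsMulCommutative G) :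
    _root_.commutator G = ⊤ := by
  refine (Subgroup.Normal.eq_bot_or_eq_top (commutator_normal _ _)).resolve_left fun e => hna ⟨⟨fun a b => ?_⟩⟩
  have h1 : ⁅a, b⁆ ∈ _root_.commutator G := commutator_mem_commutator (mem_top a) (mem_top b)
  rw [show _root_.commutator G = ⊥ from e, mem_bot] at h1
  exact commutatorElement_eq_one_iff_mul_comm.1 h1

/-- A strongly closed subgroup of order two is excluded by the Z*-theorem. -/
theorem card_ne_two {G : Type u} [Group G] [Finite G] [IsSimpleGroup G] (hna : ¬ IsMulCommutative G)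
    {S : Sylow 2 G} {X : Subgroup G} (hX : Closed S X) : Nat.card X ≠ 2 := by
  haveI : Fact (Nat.Prime 2) := ⟨Nat.prime_two⟩
  intro hc
  obtain ⟨z, hz, huniq⟩ := (Nat.card_eq_two_iff' (1 : X)).1 hc
  have hz2 : orderOf (z : G) = 2 := by
    rw [Subgroup.orderOf_coe]
    exact orderOf_eq_prime (by rw [← hc, pow_card_eq_one']) hz
  have hiso : ∀ g : G, g * z * g⁻¹ ∈ (S : Subgroup G) → g * z * g⁻¹ = (z : G) := fun g hg =>
    congrArg Subtype.val (huniq ⟨_, hX.conj_mem z.2 hg⟩ fun e =>
      hz (Subtype.ext (conj_eq_one_iff.1 (congrArg Subtype.val e))))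
  have hcore := CfsgLib.Classical.AbSylow.oddCore_eq_bot_simple hz2
  have hcen : (z : G) ∈ center G := mem_center_iff.2 fun g => by
    have h1 := CfsgLib.ZStar.mem_oddCore_of_sylow S hz2 (hX.le z.2) hiso g
    rw [hcore, mem_bot, mul_inv_eq_one, mul_inv_eq_iff_eq_mul] at h1
    exact h1.symm
  rcases (inferInstance : (center G).Normal).eq_bot_or_eq_top with e | e
  · rw [e, mem_bot] at hcen
    exact hz (Subtype.ext hcen)
  · exact hna ⟨⟨fun a b => (mem_center_iff.1 (e ▸ mem_top a) b).symm⟩⟩

/-- **The reduction.** -/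
theorem reductionStep : ReductionStep.{u} := by
  intro hW hSet G _ _ _ hna S A hne hA hsc
  haveI : Fact (Nat.Prime 2) := ⟨Nat.prime_two⟩
  induction hn : Nat.card G using Nat.strong_induction_on generalizing G with
  | _ n ih =>
  subst hn
  have hsmall : Smaller G := fun K _ _ _ hnK hlt T B hB hBc hBsc =>
    ih (Nat.card K) hlt K hnK T B hB hBc hBsc rfl
  have hconj : ∀ T : Sylow 2 G, IsMulCommutative (T : Subgroup G) → IsMulCommutative (S : Subgroup G) := fun T hT =>
    ⟨⟨fun x y => (T.equiv S).symm.injective (by simp only [map_mul]; exact hT.is_comm.comm _ _)⟩⟩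
  by_cases hab : IsMulCommutative (S : Subgroup G)
  · exact Or.inl (hW G hna fun P => ⟨⟨fun x y => (P.equiv S).injective (by
      simp only [map_mul]; exact hab.is_comm.comm _ _)⟩⟩)
  by_cases hSE : ∃ H : Subgroup G, Cfsg.IsStronglyEmbedded H
  · exact Or.inr ⟨fun T hT => hab (hconj T hT), hSE⟩
  exfalso
  have h0 : Closed S A := ⟨hA, hsc⟩
  obtain ⟨X, hXB, hXne, hX, hirr⟩ := exists_irred (closed_sqOne h0) (sqOne_ne_bot h0 hne)
  have helem : Cfsg.IsElementaryAbelian 2 X :=
    ⟨hX.comm, fun a ha => (pow_two a).trans (hXB ha).2⟩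
  have hfour : 4 ≤ Nat.card X := by
    obtain ⟨k, hk⟩ := IsPGroup.iff_card.1 (S.2.to_le hX.le)
    have h2 := card_ne_two hna hX
    have h1 : Nat.card X ≠ 1 := fun e => hXne (Subgroup.card_eq_one.1 e)
    rw [hk] at h1 h2 ⊢
    rcases k with _ | _ | k
    · simp at h1
    · simp at h2
    · calc 4 = 2 ^ 2 := by norm_num
        _ ≤ 2 ^ (k + 1 + 1) := Nat.pow_le_pow_right (by norm_num) (by omega)
  exact hSet G S X hsmall
    { simple := inferInstance
      noncomm := hab
      noSE := fun H hH => hSE ⟨H, hH⟩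
      elem := helem
      four := hfour
      closed := hX.closed
      sylow_le := hX.sylow_le_normalizer
      irred := hirr
      control := fun x hx g hg => closed_control hX hx hg
      no_two := fun K _ hK hidx => closed_no_two hX (commutator_eq_top_of_simple hna) hK hidx }

end CfsgLib.Invol.Goldschmidt
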