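import Cfsg.Agent.Lib.Invol.Goldschmidt.Assembly
import Cfsg.Agent.Lib.Invol.Goldschmidt.NoPairProof
import Cfsg.Agent.Lib.Invol.Goldschmidt.ReductionProof
import Cfsg.Agent.Lib.Invol.Goldschmidt.RankThree.Bridge

/-!
Owner: helper18. S1169 from the facts on the moved components and Walter's structure theorem.
-/

set_option autoImplicit false

namespace CfsgLib.Invol.Goldschmidt

universe u

/-- **S1169** from the facts and the structure theorem. -/
theorem goldschmidtInput_of_facts (hfacts : FactsStep.{u}) (hW : Walter.StructureTheorem.{u}) :
    CfsgLib.SThreeFree.GoldschmidtInput.{u} :=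
  goldschmidtInput_of_steps hW reductionStep hfacts eightStep noPair

end CfsgLib.Invol.Goldschmidt
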