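import Mathlib

/-!
# Strongly closed abelian 2-subgroups: pairs give a block decomposition

Notes: `notes/goldschmidt_G4_helper1.md`, section 2.  A finite abelian group `M` with an
irreducible action of `Q`, a transitive family of pairs `(V, C)`, `M = V * C`, `|V| = 4` or `8`,
each with an element of `Q` transitive on the nonidentity elements of `V` and trivial on `C`, such
that two pairs whose kernels meet are orthogonal.  Then the `V` are at least three blocks of a
direct decomposition and every kernel is the product of the other blocks.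
-/

namespace CfsgLib.InvolGoldschmidt.G4

/-- A family of pairs (image, kernel) with a torus for each of them. -/
structure Pairs (Q M ι : Type*) [Group Q] [CommGroup M] [MulDistribMulAction Q M]
    [MulAction Q ι] where
  V : ι → Subgroup M
  C : ι → Subgroup M
  size : ℕ
  size_eq : size = 4 ∨ size = 8
  card_V : ∀ P, Nat.card (V P) = size
  mem_V : ∀ (g : Q) (P : ι) (x : M), g • x ∈ V (g • P) ↔ x ∈ V P
  mem_C : ∀ (g : Q) (P : ι) (x : M), g • x ∈ C (g • P) ↔ x ∈ C P
  compl : ∀ P, IsCompl (V P) (C P)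
  sq : ∀ x : M, x * x = 1
  t : ι → Q
  t_smul : ∀ P, t P • P = P
  t_fix : ∀ P, ∀ x ∈ C P, t P • x = x
  t_trans : ∀ P, ∀ v ∈ V P, ∀ w ∈ V P, v ≠ 1 → w ≠ 1 → ∃ n : ℕ, t P ^ n • v = w
  linked : ∀ P P', P ≠ P' → C P ⊓ C P' ≠ ⊥ → V P' ≤ C P ∧ V P ≤ C P'

namespace Pairs

variable {Q M ι : Type*} [Group Q] [CommGroup M] [MulDistribMulAction Q M] [MulAction Q ι]
  (D : Pairs Q M ι)

lemma size_ge : 4 ≤ D.size := by rcases D.size_eq with h | h <;> omega

lemma V_ne_bot (P : ι) : D.V P ≠ ⊥ := by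
  intro h
  have h' := D.card_V P
  have h'' := D.size_ge
  rw [h, Subgroup.card_bot] at h'
  omega

lemma eq_one_of_V_C {P : ι} {x : M} (hV : x ∈ D.V P) (hC : x ∈ D.C P) : x = 1 :=
  Subgroup.mem_bot.mp ((D.compl P).disjoint.le_bot ⟨hV, hC⟩)

lemma exists_parts (P : ι) (x : M) : ∃ v ∈ D.V P, ∃ c ∈ D.C P, v * c = x :=
  Subgroup.mem_sup.mp ((D.compl P).sup_eq_top.symm ▸ Subgroup.mem_top x)

lemma card_mul (P : ι) : Nat.card (D.V P) * Nat.card (D.C P) = Nat.card M := by
  rw [← Nat.card_prod]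
  refine Nat.card_congr (Equiv.ofBijective (fun p => (p.1 : M) * (p.2 : M)) ⟨?_, ?_⟩)
  · exact Subgroup.mul_injective_of_disjoint (D.compl P).disjoint
  · intro x
    obtain ⟨v, hv, c, hc, h⟩ := D.exists_parts P x
    exact ⟨(⟨v, hv⟩, ⟨c, hc⟩), h⟩

lemma card_C_eq [Finite M] (P P' : ι) : Nat.card (D.C P) = Nat.card (D.C P') := by
  have h1 := D.card_mul P
  have h2 := D.card_mul P'
  rw [D.card_V] at h1 h2
  have := D.size_ge
  exact Nat.eq_of_mul_eq_mul_left (by omega) (h1.trans h2.symm)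

lemma smul_C_mem_of_fix {g : Q} {P : ι} (h : g • P = P) {x : M} (hx : x ∈ D.C P) :
    g • x ∈ D.C P := by
  have := (D.mem_C g P x).mpr hx
  rwa [h] at this

lemma t_pow_smul (P : ι) (n : ℕ) : D.t P ^ n • P = P :=
  Subgroup.pow_mem (MulAction.stabilizer Q P) (D.t_smul P) n

lemma t_pow_fix (P : ι) (n : ℕ) {x : M} (hx : x ∈ D.C P) : D.t P ^ n • x = x :=
  Subgroup.pow_mem (MulAction.stabilizer Q x) (D.t_fix P x hx) n

lemma t_pow_V (P : ι) (n : ℕ) {x : M} (hx : x ∈ D.V P) : D.t P ^ n • x ∈ D.V P := by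
  have := (D.mem_V (D.t P ^ n) P x).mpr hx
  rwa [D.t_pow_smul P n] at this

/-- Every orbit of the torus on the nonidentity elements of `V` has length `|V| - 1`. -/
lemma period_eq [Finite M] {P : ι} {w : M} (hw : w ∈ D.V P) (hw1 : w ≠ 1) :
    MulAction.period (D.t P) w = D.size - 1 := by
  classical
  obtain ⟨k, hk⟩ : ∃ k, k = MulAction.period (D.t P) w := ⟨_, rfl⟩
  let f : ℕ → M := fun n => D.t P ^ n • w
  have hmem : ∀ n, f n ∈ (D.V P : Set M) \ {1} := by
    intro n
    refine ⟨D.t_pow_V P n hw, fun h => hw1 ?_⟩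
    exact (smul_eq_iff_eq_inv_smul _).mp (Set.mem_singleton_iff.mp h) |>.trans (smul_one _)
  have hkpos : 0 < k := by
    obtain ⟨i, -, j, -, hij, he⟩ := Set.infinite_univ.exists_ne_map_eq_of_mapsTo
      (f := f) (t := Set.univ) (Set.mapsTo_univ _ _) Set.finite_univ
    rw [hk]
    rcases lt_or_gt_of_ne hij with h | h
    · have h0 : D.t P ^ (j - i) • w = w := by
        apply smul_left_cancel (D.t P ^ i)
        rw [← mul_smul, ← pow_add, Nat.add_sub_cancel' h.le]
        exact he.symm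
      exact Nat.pos_of_dvd_of_pos (MulAction.pow_smul_eq_iff_period_dvd.mp h0) (by omega)
    · have h0 : D.t P ^ (i - j) • w = w := by
        apply smul_left_cancel (D.t P ^ j)
        rw [← mul_smul, ← pow_add, Nat.add_sub_cancel' h.le]
        exact he
      exact Nat.pos_of_dvd_of_pos (MulAction.pow_smul_eq_iff_period_dvd.mp h0) (by omega)
  have hcard : ((D.V P : Set M) \ {1}).ncard = D.size - 1 := by
    rw [Set.ncard_sdiff_singleton_of_mem (D.V P).one_mem, ← Nat.card_coe_set_eq]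
    exact congrArg (· - 1) (D.card_V P)
  have himage : f '' (Finset.range k : Set ℕ) = (D.V P : Set M) \ {1} := by
    apply Set.Subset.antisymm
    · rintro _ ⟨n, -, rfl⟩
      exact hmem n
    · rintro x ⟨hxV, hx1⟩
      obtain ⟨n, hn⟩ := D.t_trans P w hw x hxV hw1 hx1
      refine ⟨n % k, by simpa using Nat.mod_lt n hkpos, ?_⟩
      simp only [f, hk, MulAction.pow_mod_period_smul, hn]
  have hinj : Set.InjOn f (Finset.range k : Set ℕ) := by
    have key : ∀ i j, i ≤ j → j < k → f i = f j → i = j := by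
      intro i j hij hjk he
      have h0 : D.t P ^ (j - i) • w = w := by
        apply smul_left_cancel (D.t P ^ i)
        rw [← mul_smul, ← pow_add, Nat.add_sub_cancel' hij]
        exact he.symm
      have := Nat.eq_zero_of_dvd_of_lt (hk ▸ MulAction.pow_smul_eq_iff_period_dvd.mp h0)
        (by omega)
      omega
    intro i hi j hj he
    simp only [Finset.coe_range, Set.mem_Iio] at hi hj
    rcases le_total i j with h | h
    · exact key i j h hj he
    · exact (key j i h hi he.symm).symm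
  have := hinj.ncard_image
  rw [himage, hcard, Set.ncard_coe_finset, Finset.card_range] at this
  omega

/-- A power of the torus that moves a point of `V` and fixes `P'` makes every kernel point of
`P'` in `V` drag all of `V` along. -/
lemma V_le_C_of_fix [Finite M] {P P' : ι} {n : ℕ} {u w : M} (hu : u ∈ D.V P)
    (hmove : D.t P ^ n • u ≠ u) (hfix : D.t P ^ n • P' = P') (hw : w ∈ D.V P) (hw1 : w ≠ 1)
    (hwC : w ∈ D.C P') : D.V P ≤ D.C P' := by
  have hu1 : u ≠ 1 := fun h => hmove (by rw [h, smul_one])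
  have hp : (D.size - 1).Prime := by
    rcases D.size_eq with h | h <;> rw [h] <;> norm_num
  have hn : ¬ (D.size - 1) ∣ n := by
    intro hdvd
    apply hmove
    rw [← D.period_eq hu hu1] at hdvd
    exact MulAction.pow_smul_eq_iff_period_dvd.mpr hdvd
  obtain ⟨m, -, hm⟩ := Nat.exists_mul_mod_eq_one_of_coprime
    ((hp.coprime_iff_not_dvd.mpr hn).symm) hp.one_lt
  have hstep : ∀ x, x ∈ D.V P → x ∈ D.C P' → D.t P • x ∈ D.C P' := by
    intro x hxV hxC
    by_cases hx1 : x = 1
    · rw [hx1, smul_one]; exact one_mem _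
    · have h1 : D.t P ^ (n * m) • x = D.t P • x := by
        rw [← MulAction.pow_mod_period_smul (n := n * m), D.period_eq hxV hx1, hm, pow_one]
      rw [← h1]
      refine D.smul_C_mem_of_fix ?_ hxC
      rw [pow_mul]
      exact Subgroup.pow_mem (MulAction.stabilizer Q P') hfix m
  intro x hx
  by_cases hx1 : x = 1
  · rw [hx1]; exact one_mem _
  obtain ⟨k, hk⟩ := D.t_trans P w hw x hx hw1 hx1
  rw [← hk]
  suffices ∀ k : ℕ, D.t P ^ k • w ∈ D.C P' from this k
  intro k
  induction k with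
  | zero => rwa [pow_zero, one_smul]
  | succ k ih =>
    rw [pow_succ', mul_smul]
    exact hstep _ (D.t_pow_V P k hw) ih

lemma C_inj {P P' : ι} (hC : D.C P ≠ ⊥) (h : D.C P = D.C P') : P = P' := by
  by_contra hne
  have h1 := (D.linked P P' hne (by rwa [← h, inf_idem])).1
  apply D.V_ne_bot P'
  rw [h] at h1
  exact eq_bot_iff.mpr fun x hx => Subgroup.mem_bot.mpr (D.eq_one_of_V_C hx (h1 hx))

lemma C_inf_eq_bot [Finite M] {P P' : ι} (hne : P ≠ P')
    (hsmall : Nat.card (D.C P) ≤ D.size) : D.C P ⊓ D.C P' = ⊥ := by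
  by_contra h
  obtain ⟨h1, h2⟩ := D.linked P P' hne h
  have e1 : D.V P' = D.C P :=
    Subgroup.eq_of_le_of_card_ge h1 (by rw [D.card_V]; exact hsmall)
  have e2 : D.V P = D.C P' :=
    Subgroup.eq_of_le_of_card_ge h2 (by rw [D.card_V, D.card_C_eq P' P]; exact hsmall)
  apply h
  rw [← e2]
  exact (D.compl P).symm.inf_eq_bot

lemma kernel_unique [Finite M] {P P' : ι} {x : M} (hsmall : Nat.card (D.C P) ≤ D.size)
    (hx1 : x ≠ 1) (hx : x ∈ D.C P) (hx' : x ∈ D.C P') : P = P' := by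
  by_contra hne
  exact hx1 (Subgroup.mem_bot.mp (D.C_inf_eq_bot hne hsmall ▸ (⟨hx, hx'⟩ : x ∈ D.C P ⊓ D.C P')))

/-- A kernel that is neither the kernel nor the image of `P` meets the image trivially, if the
kernels have more than two elements. -/
lemma C_inf_V [Finite M] {P P' : ι} (hsmall : Nat.card (D.C P) ≤ D.size)
    (htwo : 2 < Nat.card (D.C P)) (hne : P' ≠ P) (hV : D.C P' ≠ D.V P) :
    ∀ w ∈ D.V P, w ∈ D.C P' → w = 1 := by
  intro w hw hwC
  by_contra hw1
  have hsub : ¬ ((D.C P' : Set M) ⊆ {1, w}) := by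
    intro h
    have h1 := Set.ncard_le_ncard h
    have h2 : ({1, w} : Set M).ncard ≤ 2 :=
      (Set.ncard_insert_le _ _).trans (by rw [Set.ncard_singleton])
    rw [← Nat.card_coe_set_eq] at h1
    change Nat.card (D.C P') ≤ _ at h1
    rw [D.card_C_eq P' P] at h1
    omega
  obtain ⟨y, hy, hy2⟩ := Set.not_subset.mp hsub
  simp only [Set.mem_insert_iff, Set.mem_singleton_iff, not_or] at hy2
  obtain ⟨v, hv, c, hc, rfl⟩ := D.exists_parts P y
  have hv1 : v ≠ 1 := by
    intro h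
    subst h
    rw [one_mul] at hy hy2
    exact hne (D.kernel_unique hsmall hy2.1 hc hy).symm
  have hvw : v * w ≠ 1 := by
    intro h
    have e : v = w := by rw [← mul_one v, ← D.sq w, ← mul_assoc, h, one_mul]
    subst e
    have hcC : c ∈ D.C P' := by
      have h' := mul_mem hy hwC
      rwa [mul_right_comm, D.sq v, one_mul] at h'
    rcases eq_or_ne c 1 with hc1 | hc1
    · exact hy2.2 (by rw [hc1, mul_one])
    · exact hne (D.kernel_unique hsmall hc1 hc hcC).symm
  obtain ⟨n, hn⟩ := D.t_trans P v hv (v * w) (mul_mem hv hw) hv1 hvw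
  have hmove : D.t P ^ n • v ≠ v := by
    rw [hn]
    exact fun h => hw1 (mul_left_cancel (h.trans (mul_one v).symm))
  have hgy : D.t P ^ n • (v * c) = v * c * w := by
    rw [smul_mul', hn, D.t_pow_fix P n hc]
    exact mul_right_comm v w c
  have hfix : D.t P ^ n • P' = P' := by
    refine D.kernel_unique (by rw [D.card_C_eq _ P]; exact hsmall) ?_
      ((D.mem_C _ _ _).mpr hy) ?_
    · intro h
      exact hy2.1 (smul_left_cancel (D.t P ^ n) (h.trans (smul_one _).symm))
    · rw [hgy]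
      exact mul_mem hy hwC
  exact hV (Subgroup.eq_of_le_of_card_ge (D.V_le_C_of_fix hv hmove hfix hw hw1 hwC)
    (by rw [D.card_C_eq P' P, D.card_V]; exact hsmall)).symm

variable [Finite M] [Finite ι] [MulAction.IsPretransitive Q ι]

set_option linter.unusedSectionVars false

/-- The kernels cannot all be `C` and `V`. -/
lemma exists_other_of_small (hirr : ∀ N : Subgroup M, (∀ g : Q, ∀ x ∈ N, g • x ∈ N) → N = ⊥ ∨ N = ⊤)
    (hind : ∀ H : Subgroup Q, H.index ≠ 2) (hC : ∀ P, D.C P ≠ ⊥) (P : ι) :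
    ∃ P', P' ≠ P ∧ D.C P' ≠ D.V P := by
  classical
  by_contra hno
  push Not at hno
  by_cases hone : ∀ P', P' = P
  · rcases hirr (D.C P) (fun g x hx => D.smul_C_mem_of_fix (hone (g • P)) hx) with h | h
    · exact hC P h
    · exact D.V_ne_bot P (by simpa [h] using (D.compl P).inf_eq_bot)
  push Not at hone
  obtain ⟨P', hP'⟩ := hone
  have huniv : ∀ R, R = P ∨ R = P' := by
    intro R
    by_cases hR : R = P
    · exact Or.inl hR
    · exact Or.inr (D.C_inj (hC R) ((hno R hR).trans (hno P' hP').symm))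
  apply hind (MulAction.stabilizer Q P)
  rw [MulAction.index_stabilizer_of_transitive, Nat.card_eq_two_iff]
  exact ⟨P, P', hP'.symm, Set.eq_univ_of_forall fun R => by simpa using huniv R⟩

/-- The points outside all kernels cannot be the nonidentity elements of each image. -/
lemma uncovered_absurd (hirr : ∀ N : Subgroup M, (∀ g : Q, ∀ x ∈ N, g • x ∈ N) → N = ⊥ ∨ N = ⊤)
    (hC : ∀ P, D.C P ≠ ⊥) (P : ι) (hin : ∀ x ∈ D.V P, x ≠ 1 → ∀ R, x ∉ D.C R)
    (hout : ∀ x, x ∉ D.V P → ∃ R, x ∈ D.C R) : False := by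
  have hinv : ∀ g : Q, ∀ x ∈ D.V P, g • x ∈ D.V P := by
    intro g x hx
    by_contra hgx
    obtain ⟨R, hR⟩ := hout _ hgx
    have h2 := (D.mem_C g⁻¹ R (g • x)).mpr hR
    rw [inv_smul_smul] at h2
    refine hin x hx ?_ _ h2
    intro h1
    exact hgx (by rw [h1, smul_one]; exact one_mem _)
  rcases hirr (D.V P) hinv with h | h
  · exact D.V_ne_bot P h
  · exact hC P (by simpa [h] using (D.compl P).inf_eq_bot)

/-- The spreads: kernels of order 4 or 8, at most `|V|`. -/
lemma small_absurd (hirr : ∀ N : Subgroup M, (∀ g : Q, ∀ x ∈ N, g • x ∈ N) → N = ⊥ ∨ N = ⊤)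
    (hind : ∀ H : Subgroup Q, H.index ≠ 2) (P₀ : ι)
    (hsmall : Nat.card (D.C P₀) ≤ D.size) (htwo : 2 < Nat.card (D.C P₀)) : False := by
  classical
  have hs : ∀ P, Nat.card (D.C P) ≤ D.size := fun P => by rw [D.card_C_eq P P₀]; exact hsmall
  have ht : ∀ P, 2 < Nat.card (D.C P) := fun P => by rw [D.card_C_eq P P₀]; exact htwo
  have hC : ∀ P, D.C P ≠ ⊥ := fun P h => by
    have := ht P; rw [h, Subgroup.card_bot] at this; omega
  have hcov : ∀ P x, x ∉ D.V P → ∃ R, x ∈ D.C R := by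
    intro P x hxV
    obtain ⟨v, hv, c, hc, rfl⟩ := D.exists_parts P x
    rcases eq_or_ne v 1 with hv1 | hv1
    · exact ⟨P, by rwa [hv1, one_mul]⟩
    have hc1 : c ≠ 1 := fun h => hxV (by rwa [h, mul_one])
    obtain ⟨P', hne, hV⟩ := D.exists_other_of_small hirr hind hC P
    let pr : D.C P' → D.C P := fun y =>
      ⟨(D.exists_parts P y.1).choose_spec.2.choose,
        (D.exists_parts P y.1).choose_spec.2.choose_spec.1⟩
    have hpr : ∀ y : D.C P', ∃ u ∈ D.V P, u * (pr y : M) = y :=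
      fun y => ⟨_, (D.exists_parts P y.1).choose_spec.1,
        (D.exists_parts P y.1).choose_spec.2.choose_spec.2⟩
    have hprinj : Function.Injective pr := by
      intro y z h
      obtain ⟨u, hu, hy⟩ := hpr y
      obtain ⟨w, hw, hz⟩ := hpr z
      have hyz : (y : M) * (z : M) = u * w := by
        rw [← hy, ← hz, h, mul_mul_mul_comm, D.sq, mul_one]
      have h1 := D.C_inf_V (hs P) (ht P) hne hV (u * w) (mul_mem hu hw)
        (hyz ▸ mul_mem y.2 z.2)
      rw [← hyz] at h1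
      apply Subtype.ext
      calc (y : M) = y * (z * z) := by rw [D.sq, mul_one]
        _ = z := by rw [← mul_assoc, h1, one_mul]
    have hbij := (Nat.bijective_iff_injective_and_card pr).mpr ⟨hprinj, D.card_C_eq P' P⟩
    obtain ⟨y, hy⟩ := hbij.2 ⟨c, hc⟩
    obtain ⟨u, hu, hyu⟩ := hpr y
    rw [hy] at hyu
    have hu1 : u ≠ 1 := by
      intro h
      rw [h, one_mul] at hyu
      have hcy : c = (y : M) := hyu
      exact hne (D.kernel_unique (hs P) hc1 hc (hcy.symm ▸ y.2 : c ∈ D.C P')).symm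
    obtain ⟨n, hn⟩ := D.t_trans P u hu v hv hu1 hv1
    refine ⟨D.t P ^ n • P', ?_⟩
    have h := (D.mem_C (D.t P ^ n) P' (y : M)).mpr y.2
    rwa [← hyu, smul_mul', hn, D.t_pow_fix P n hc] at h
  by_cases hcase : ∀ R, D.C R ≠ D.V P₀
  · refine D.uncovered_absurd hirr hC P₀ (fun x hx hx1 R hR => ?_) (hcov P₀)
    rcases eq_or_ne R P₀ with rfl | hne
    · exact hx1 (D.eq_one_of_V_C hx hR)
    · exact hx1 (D.C_inf_V (hs P₀) (ht P₀) hne (hcase R) x hx hR)
  push Not at hcase
  obtain ⟨R₀, hR₀⟩ := hcase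
  have hex : ∀ P, ∃ R, D.C R = D.V P := by
    intro P
    obtain ⟨g, rfl⟩ := MulAction.exists_smul_eq Q P₀ P
    refine ⟨g • R₀, SetLike.ext fun x => ?_⟩
    rw [← smul_inv_smul g x, D.mem_C, D.mem_V, hR₀]
  choose f hf using hex
  have hequiv : ∀ (g : Q) P, f (g • P) = g • f P := fun g P =>
    D.C_inj (hC _) <| SetLike.ext fun x => by
      rw [hf, ← smul_inv_smul g x, D.mem_C, D.mem_V, hf]
  have hsurj : Function.Surjective f := by
    intro R
    obtain ⟨g, hg⟩ := MulAction.exists_smul_eq Q (f P₀) R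
    exact ⟨g • P₀, by rw [hequiv, hg]⟩
  have hinj : Function.Injective f := Finite.injective_iff_surjective.mpr hsurj
  have hne : ∀ P, f P ≠ P := fun P h => by
    apply D.V_ne_bot P
    rw [← hf P, h]
    exact eq_bot_iff.mpr fun x hx => Subgroup.mem_bot.mpr
      (D.eq_one_of_V_C (by rwa [← hf P, h]) hx)
  have hinvol : ∀ P, f (f P) = P := by
    intro P
    by_contra h
    -- the torus of `f P` fixes `P`, hence its two fixed kernels are those of `f P` and `P`
    have htP : D.t (f P) • P = P := hinj (by rw [hequiv, D.t_smul])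
    have hVne : D.C P ≠ D.V (f P) := fun e => h (D.C_inj (hC _) ((hf (f P)).trans e.symm))
    obtain ⟨y, hy, hy1⟩ := (D.C P).ne_bot_iff_exists_ne_one.mp (hC P) |> fun ⟨y, hy⟩ =>
      (⟨y.1, y.2, fun e => hy (Subtype.ext e)⟩ : ∃ y, y ∈ D.C P ∧ y ≠ 1)
    obtain ⟨u, hu, c, hc, huc⟩ := D.exists_parts (f P) y
    have hu1 : u ≠ 1 := by
      intro e
      rw [e, one_mul] at huc
      exact hne P (D.kernel_unique (hs P) hy1 hy (huc ▸ hc)).symm
    have hty : D.t (f P) • y = y := by
      have h1 : D.t (f P) • y ∈ D.C P := D.smul_C_mem_of_fix htP hy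
      have h2 : D.t (f P) • y * y = D.t (f P) • u * u := by
        rw [← huc, smul_mul', D.t_fix _ c hc, mul_mul_mul_comm, D.sq, mul_one]
      have h3 := D.C_inf_V (hs (f P)) (ht (f P)) (hne P).symm hVne (D.t (f P) • u * u)
        (mul_mem (by simpa using D.t_pow_V (f P) 1 hu) hu) (h2 ▸ mul_mem h1 hy)
      rw [← h2] at h3
      calc D.t (f P) • y = D.t (f P) • y * (y * y) := by rw [D.sq, mul_one]
        _ = y := by rw [← mul_assoc, h3, one_mul]
    have htu : D.t (f P) • u = u := by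
      rw [← huc, smul_mul', D.t_fix _ c hc] at hty
      exact mul_right_cancel hty
    have h1 := D.period_eq hu hu1
    have h2 : MulAction.period (D.t (f P)) u ∣ 1 :=
      MulAction.pow_smul_eq_iff_period_dvd.mp (by rwa [pow_one])
    rw [h1] at h2
    have := Nat.le_of_dvd one_pos h2
    have := D.size_ge
    omega
  -- all points are covered once, so the number of pairs is `|V| + 1`, odd
  have hcsize : ∀ P, Nat.card (D.C P) = D.size := fun P => by
    rw [D.card_C_eq P (f P₀), hf, D.card_V]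
  have hall : ∀ x : M, ∃ R, x ∈ D.C R := fun x =>
    if h : x ∈ D.V P₀ then ⟨f P₀, by rwa [hf]⟩ else hcov P₀ x h
  let e : (Σ R, {x : D.C R // x ≠ 1}) → {x : M // x ≠ 1} := fun a =>
    ⟨a.2.1.1, fun h => a.2.2 (Subtype.ext h)⟩
  have hebij : Function.Bijective e := by
    refine ⟨?_, ?_⟩
    · rintro ⟨R, ⟨x, hx⟩, hx1⟩ ⟨R', ⟨x', hx'⟩, hx1'⟩ h
      obtain rfl : x = x' := congrArg Subtype.val h
      obtain rfl : R = R' :=
        D.kernel_unique (hs R) (fun e => hx1 (Subtype.ext e)) hx hx'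
      rfl
    · rintro ⟨x, hx1⟩
      obtain ⟨R, hR⟩ := hall x
      exact ⟨⟨R, ⟨x, hR⟩, fun e => hx1 (congrArg Subtype.val e)⟩, rfl⟩
  have hcount := Nat.card_eq_of_bijective e hebij
  have := Fintype.ofFinite ι
  have hsub : ∀ (X : Type _) [Finite X] (a : X), Nat.card {x : X // x ≠ a} = Nat.card X - 1 := by
    intro X _ a
    have := Fintype.ofFinite X
    simp [Nat.card_eq_fintype_card]
  rw [Nat.card_sigma, hsub M 1] at hcount
  simp only [hsub, hcsize, Finset.sum_const, Finset.card_univ, smul_eq_mul] at hcount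
  rw [← D.card_mul P₀, D.card_V, hcsize] at hcount
  have hm : Fintype.card ι = D.size + 1 := by
    rcases D.size_eq with h | h <;> rw [h] at hcount ⊢ <;> omega
  have hodd : ¬ 2 ∣ Fintype.card ι := by
    rw [hm]; rcases D.size_eq with h | h <;> omega
  obtain ⟨P, hP⟩ := Equiv.Perm.exists_fixed_point_of_prime (p := 2) (n := 1) hodd
    (σ := ⟨f, f, hinvol, hinvol⟩) (by ext P; simp [pow_two, hinvol])
  exact hne P hP

/-- All fifteen points are kernel points: no such configuration. -/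
lemma all_points_absurd (hsize : D.size = 8) (P₀ R₀ : ι) (hc : Nat.card (D.C P₀) = 2)
    (a : ι → M) (ha1 : ∀ P, a P ≠ 1) (haV : ∀ P, a P ∉ D.V P) (hainj : Function.Injective a)
    (hag : ∀ (g : Q) P, a (g • P) = g • a P) (hR₀ : a R₀ ∈ D.V P₀)
    (hpart : ∀ P x, x ∉ D.V P → ∃ v ∈ D.V P, x = v * a P)
    (hmv : ∀ P, ∀ v ∈ D.V P, ∀ w ∈ D.V P, v ≠ 1 → w ≠ 1 →
      ∃ g : Q, g • P = P ∧ g • a P = a P ∧ g • v = w ∧ g • (v * a P) = w * a P)
    (hall : ∀ x : M, x ≠ 1 → ∃ R, a R = x) : False := by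
  classical
  -- the relation `a R ∈ V P`
  have hgV : ∀ (g : Q) P R, a (g • R) ∈ D.V (g • P) ↔ a R ∈ D.V P := fun g P R => by
    rw [hag, D.mem_V]
  have hsame : ∀ P R R', R ≠ P → R' ≠ P → (a R ∈ D.V P ↔ a R' ∈ D.V P) →
      (a P ∈ D.V R ↔ a P ∈ D.V R') := by
    intro P R R' hR hR' h
    obtain ⟨g, hgP, hgR⟩ : ∃ g : Q, g • P = P ∧ g • a R = a R' := by
      by_cases h1 : a R ∈ D.V P
      · obtain ⟨g, g1, -, g3, -⟩ := hmv P _ h1 _ (h.mp h1) (ha1 _) (ha1 _)
        exact ⟨g, g1, g3⟩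
      · obtain ⟨u, hu, hua⟩ := hpart P _ h1
        obtain ⟨w, hw, hwa⟩ := hpart P _ (mt h.mpr h1)
        have hu1 : u ≠ 1 := fun e => hR (hainj (by rw [hua, e, one_mul]))
        have hw1 : w ≠ 1 := fun e => hR' (hainj (by rw [hwa, e, one_mul]))
        obtain ⟨g, g1, -, -, g4⟩ := hmv P u hu w hw hu1 hw1
        exact ⟨g, g1, by rw [hua, g4, hwa]⟩
    have hR'' : g • R = R' := hainj (by rw [hag, hgR])
    have := hgV g R P
    rw [hgP, hR''] at this
    exact this.symm
  have hexin : ∀ P, ∃ R, R ≠ P ∧ a R ∈ D.V P := by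
    intro P
    obtain ⟨g, rfl⟩ := MulAction.exists_smul_eq Q P₀ P
    refine ⟨g • R₀, fun e => ?_, (hgV _ _ _).mpr hR₀⟩
    exact haV P₀ (smul_left_cancel g e ▸ hR₀)
  by_cases hsym : ∃ P R, a R ∈ D.V P ∧ a P ∈ D.V R
  · -- symmetric relation: a polarity without absolute points
    obtain ⟨P, R, h1, h2⟩ := hsym
    have hall' : ∀ P' R', a R' ∈ D.V P' → a P' ∈ D.V R' := by
      intro P' R' h'
      obtain ⟨g, rfl⟩ := MulAction.exists_smul_eq Q P P'
      have hne : ∀ {X Y}, a X ∈ D.V Y → X ≠ Y := fun {X Y} hX e => haV Y (e ▸ hX)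
      exact (hsame _ _ _ (hne ((hgV g P R).mpr h1)) (hne h')
        (iff_of_true ((hgV g P R).mpr h1) h')).mp ((hgV g R P).mpr h2)
    have hne : a P * a R ≠ 1 := fun h => haV P (by
      have : a P = a R := by
        calc a P = a P * (a R * a R) := by rw [D.sq, mul_one]
          _ = a R := by rw [← mul_assoc, h, one_mul]
      rwa [this])
    obtain ⟨T, hT⟩ := hall _ hne
    have hTP : a T ∉ D.V P := fun h => haV P (by
      rw [hT] at h
      simpa [mul_assoc, D.sq] using mul_mem h h1)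
    have hTR : a T ∉ D.V R := fun h => haV R (by
      rw [hT, mul_comm] at h
      simpa [mul_assoc, D.sq] using mul_mem h h2)
    obtain ⟨u, hu, hua⟩ := hpart T _ (fun h => hTP (hall' T P h))
    obtain ⟨w, hw, hwa⟩ := hpart T _ (fun h => hTR (hall' T R h))
    apply haV T
    have : a P * a R = u * w := by rw [hua, hwa, mul_mul_mul_comm, D.sq, mul_one]
    rw [hT, this]
    exact mul_mem hu hw
  -- otherwise a tournament, which is not linear
  push Not at hsym
  have htour : ∀ P R, R ≠ P → a R ∉ D.V P → a P ∈ D.V R := by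
    intro P R hne h
    by_contra h'
    -- then nobody outside `V P` has `a P` in its image
    obtain ⟨g, hg⟩ := MulAction.exists_smul_eq Q R₀ P
    have h2 : a P ∈ D.V (g • P₀) := by rw [← hg]; exact (hgV _ _ _).mpr hR₀
    have hne' : g • P₀ ≠ P := fun e => haV P (e ▸ h2)
    exact h' ((hsame P _ _ hne hne' (iff_of_false h (hsym _ _ h2))).mpr h2)
  have hnot : ∀ P {x y : M}, x ∉ D.V P → y ∉ D.V P → x * y ∈ D.V P := by
    intro P x y hx hy
    obtain ⟨u, hu, rfl⟩ := hpart P x hx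
    obtain ⟨w, hw, rfl⟩ := hpart P y hy
    rw [mul_mul_mul_comm, D.sq, mul_one]
    exact mul_mem hu hw
  have hlin : ∀ P {x y : M}, (x * y ∈ D.V P ↔ (x ∈ D.V P ↔ y ∈ D.V P)) := by
    intro P x y
    refine ⟨fun h => ⟨fun hx => ?_, fun hy => ?_⟩, fun h => ?_⟩
    · have := mul_mem hx h; rwa [← mul_assoc, D.sq, one_mul] at this
    · have := mul_mem h hy; rwa [mul_assoc, D.sq, mul_one] at this
    · by_cases hx : x ∈ D.V P
      · exact mul_mem hx (h.mp hx)
      · exact hnot P hx (mt h.mpr hx)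
  -- a line `p, q, p * q` and a second line outside it
  obtain ⟨q, hq1, hqV⟩ := hexin P₀
  have hpq : a P₀ * a q ≠ 1 := fun h => haV P₀ (by
    have : a P₀ = a q := by
      calc a P₀ = a P₀ * (a q * a q) := by rw [D.sq, mul_one]
        _ = a q := by rw [← mul_assoc, h, one_mul]
    rwa [this])
  obtain ⟨r, hr⟩ := hall _ hpq
  have hM : Nat.card M = 16 := by rw [← D.card_mul P₀, D.card_V, hsize, hc]
  obtain ⟨x, y, hx, hy, hxy⟩ : ∃ x y : M, (∀ z ∈ ({1, a P₀, a q, a r} : Set M), x ≠ z) ∧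
      (∀ z ∈ ({1, a P₀, a q, a r} : Set M), y ≠ z) ∧
      (∀ z ∈ ({1, a P₀, a q, a r} : Set M), x * y ≠ z) := by
    let L : Set M := {1, a P₀, a q, a r}
    have hL : L.ncard ≤ 4 := by
      refine (Set.ncard_insert_le _ _).trans (Nat.succ_le_succ ?_)
      refine (Set.ncard_insert_le _ _).trans (Nat.succ_le_succ ?_)
      exact (Set.ncard_insert_le _ _).trans (by rw [Set.ncard_singleton])
    obtain ⟨x, -, hx⟩ := Set.exists_mem_notMem_of_ncard_lt_ncard (s := L) (t := Set.univ)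
      (by rw [Set.ncard_univ, hM]; omega)
    obtain ⟨y, -, hy⟩ := Set.exists_mem_notMem_of_ncard_lt_ncard
      (s := L ∪ (fun z => x * z) '' L) (t := Set.univ) (by
        have := Set.ncard_union_le L ((fun z => x * z) '' L)
        have := Set.ncard_image_le (f := fun z => x * z) L.toFinite
        rw [Set.ncard_univ, hM]; omega)
    refine ⟨x, y, fun z hz e => hx (e ▸ hz), fun z hz e => hy (Or.inl (e ▸ hz)),
      fun z hz e => hy (Or.inr ⟨z, hz, ?_⟩)⟩
    change x * z = y
    rw [← e, ← mul_assoc, D.sq, one_mul]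
  obtain ⟨X, rfl⟩ := hall x (hx 1 (by simp))
  obtain ⟨Y, rfl⟩ := hall y (hy 1 (by simp))
  obtain ⟨Z, hZ⟩ := hall (a X * a Y) (hxy 1 (by simp))
  have key : ∀ T, (∀ z ∈ ({1, a P₀, a q, a r} : Set M), a T ≠ z) →
      ((a T ∈ D.V r) ↔ ¬ (a T ∈ D.V P₀ ↔ a T ∈ D.V q)) := by
    intro T hT
    have h0 : ∀ W, a W ∈ ({1, a P₀, a q, a r} : Set M) → (a W ∈ D.V T ↔ a T ∉ D.V W) := by
      intro W hW
      have hne : T ≠ W := fun e => hT _ hW (by rw [e])
      exact ⟨fun h => hsym _ _ h, fun h => htour W T hne h⟩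
    have e1 := h0 P₀ (by simp)
    have e2 := h0 q (by simp)
    have e3 := h0 r (by simp)
    have e4 := hlin T (x := a P₀) (y := a q)
    rw [← hr] at e4
    tauto
  have k1 := key X hx
  have k2 := key Y hy
  have k3 := key Z (by rwa [hZ])
  rw [hZ, hlin, hlin, hlin] at k3
  tauto


/-- Kernels of order two: three configurations, none occurs. -/
lemma point_absurd (hirr : ∀ N : Subgroup M, (∀ g : Q, ∀ x ∈ N, g • x ∈ N) → N = ⊥ ∨ N = ⊤)
    (P₀ : ι) (hsize : D.size = 8) (hc : Nat.card (D.C P₀) = 2) : False := by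
  classical
  have hs : ∀ P, Nat.card (D.C P) ≤ D.size := fun P => by rw [D.card_C_eq P P₀, hc, hsize]; omega
  have hC : ∀ P, D.C P ≠ ⊥ := fun P h => by
    have := D.card_C_eq P P₀; rw [h, hc, Subgroup.card_bot] at this; omega
  have hgen : ∀ P, ∃ a, a ≠ 1 ∧ ∀ x, x ∈ D.C P ↔ x = 1 ∨ x = a := by
    intro P
    obtain ⟨x, y, hxy, huniv⟩ := Nat.card_eq_two_iff.mp ((D.card_C_eq P P₀).trans hc)
    obtain ⟨a, ha⟩ := Subgroup.ne_bot_iff_exists_ne_one.mp (hC P)
    refine ⟨a, fun h => ha (Subtype.ext h), fun z => ⟨fun hz => ?_, ?_⟩⟩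
    · have h1 : (⟨z, hz⟩ : D.C P) ∈ ({x, y} : Set (D.C P)) := huniv ▸ Set.mem_univ _
      have h2 : (1 : D.C P) ∈ ({x, y} : Set (D.C P)) := huniv ▸ Set.mem_univ _
      have h3 : a ∈ ({x, y} : Set (D.C P)) := huniv ▸ Set.mem_univ _
      simp only [Set.mem_insert_iff, Set.mem_singleton_iff] at h1 h2 h3
      rcases h1 with h1 | h1 <;> rcases h2 with h2 | h2 <;> rcases h3 with h3 | h3 <;>
        first
          | exact (ha (h3.trans h2.symm)).elim
          | exact Or.inl (congrArg Subtype.val (h1.trans h2.symm))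
          | exact Or.inr (congrArg Subtype.val (h1.trans h3.symm))
    · rintro (rfl | rfl)
      · exact one_mem _
      · exact a.2
  choose a ha1 ha using hgen
  have hainj : Function.Injective a := fun P R h =>
    D.C_inj (hC P) (SetLike.ext fun x => by rw [ha, ha, h])
  have hag : ∀ (g : Q) P, a (g • P) = g • a P := by
    intro g P
    have h := (D.mem_C g P (a P)).mpr ((ha P _).mpr (Or.inr rfl))
    rcases (ha _ _).mp h with h | h
    · exact absurd (smul_left_cancel g (h.trans (smul_one g).symm)) (ha1 P)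
    · exact h.symm
  have haC : ∀ P, a P ∈ D.C P := fun P => (ha P _).mpr (Or.inr rfl)
  have haV : ∀ P, a P ∉ D.V P := fun P h => ha1 P (D.eq_one_of_V_C h (haC P))
  -- `t P` moves `v` to any other point of `V P`, fixing `a P`
  have hmv : ∀ P, ∀ v ∈ D.V P, ∀ w ∈ D.V P, v ≠ 1 → w ≠ 1 →
      ∃ g : Q, g • P = P ∧ g • a P = a P ∧ g • v = w ∧ g • (v * a P) = w * a P := by
    intro P v hv w hw h1 h2
    obtain ⟨n, hn⟩ := D.t_trans P v hv w hw h1 h2
    have := D.t_pow_fix P n (haC P)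
    exact ⟨_, D.t_pow_smul P n, this, hn, by rw [smul_mul', hn, this]⟩
  by_cases hin : ∃ R, a R ∈ D.V P₀
  swap
  · push Not at hin
    have hex : ∃ P, P ≠ P₀ := by
      by_contra h
      push Not at h
      rcases hirr (D.C P₀) (fun g x hx => D.smul_C_mem_of_fix (h _) hx) with e | e
      · exact hC _ e
      · exact D.V_ne_bot P₀ (by simpa [e] using (D.compl P₀).inf_eq_bot)
    obtain ⟨P, hP⟩ := hex
    refine D.uncovered_absurd hirr hC P₀ (fun x hx hx1 R hR => ?_) (fun x hx => ?_)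
    · rcases (ha R x).mp hR with rfl | rfl
      · exact hx1 rfl
      · exact hin R hx
    · obtain ⟨v, hv, c, hc', rfl⟩ := D.exists_parts P₀ x
      rcases (ha P₀ c).mp hc' with rfl | rfl
      · exact absurd hx (by rwa [mul_one, not_not])
      rcases eq_or_ne v 1 with rfl | hv1
      · exact ⟨P₀, by rw [one_mul]; exact haC P₀⟩
      obtain ⟨u, hu, c, hc', huc⟩ := D.exists_parts P₀ (a P)
      rcases (ha P₀ c).mp hc' with rfl | rfl
      · rw [mul_one] at huc
        exact absurd (huc ▸ hu) (hin P)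
      have hu1 : u ≠ 1 := fun e => hP (hainj (by rw [← huc, e, one_mul]))
      obtain ⟨g, -, -, -, hg⟩ := hmv P₀ u hu v hv hu1 hv1
      exact ⟨g • P, by rw [← hg, huc, D.mem_C]; exact haC P⟩
  -- every point of every image is a kernel point
  obtain ⟨R₀, hR₀⟩ := hin
  have hVK : ∀ P, ∀ v ∈ D.V P, v ≠ 1 → ∃ R, a R = v := by
    intro P v hv hv1
    obtain ⟨g, rfl⟩ := MulAction.exists_smul_eq Q P₀ P
    have h : g • a R₀ ∈ D.V (g • P₀) := (D.mem_V _ _ _).mpr hR₀
    obtain ⟨k, -, -, hk, -⟩ := hmv _ _ h v hv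
      (fun e => ha1 R₀ (smul_left_cancel g (e.trans (smul_one g).symm))) hv1
    exact ⟨k • g • R₀, by rw [hag, hag, hk]⟩
  have hpart : ∀ P x, x ∉ D.V P → ∃ v ∈ D.V P, x = v * a P := by
    intro P x hx
    obtain ⟨v, hv, c, hc', rfl⟩ := D.exists_parts P x
    rcases (ha P c).mp hc' with rfl | rfl
    · exact absurd hx (by rwa [mul_one, not_not])
    · exact ⟨v, hv, rfl⟩
  by_cases hout : ∃ P R, R ≠ P ∧ a R ∉ D.V P
  swap
  · push Not at hout
    -- every kernel point other than `a P` lies in `V P`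
    have hVcard : 2 < ((D.V P₀ : Set M) \ {1}).ncard := by
      rw [Set.ncard_sdiff_singleton_of_mem (D.V P₀).one_mem, ← Nat.card_coe_set_eq]
      change 2 < Nat.card (D.V P₀) - 1
      rw [D.card_V, hsize]; omega
    obtain ⟨v, w, -, ⟨hv, hv1⟩, ⟨hw, hw1⟩, -, hvw, -, -⟩ :=
      (Set.two_lt_ncard_iff).mp hVcard
    obtain ⟨P, rfl⟩ := hVK P₀ v hv hv1
    obtain ⟨R, rfl⟩ := hVK P₀ w hw hw1
    have hne : a P * a R ≠ 1 := fun h => hvw (by
      calc a P = a P * (a R * a R) := by rw [D.sq, mul_one]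
        _ = a R := by rw [← mul_assoc, h, one_mul])
    obtain ⟨T, hT⟩ := hVK P₀ (a P * a R) (mul_mem hv hw) hne
    have h1 : a R ∈ D.V P := hout P R fun e => hvw (by rw [e])
    have h2 : a T ∈ D.V P := hout P T fun e => by
      rw [e] at hT
      exact ha1 R (mul_left_cancel (hT.symm.trans (mul_one _).symm))
    apply haV P
    have := mul_mem h2 h1
    rwa [hT, mul_assoc, D.sq, mul_one] at this
  -- all fifteen points are kernel points
  obtain ⟨P₁, R₁, hne₁, hR₁⟩ := hout
  have hall : ∀ x : M, x ≠ 1 → ∃ R, a R = x := by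
    intro x hx
    by_cases hxV : x ∈ D.V P₁
    · exact hVK P₁ x hxV hx
    obtain ⟨v, hv, rfl⟩ := hpart P₁ x hxV
    rcases eq_or_ne v 1 with rfl | hv1
    · exact ⟨P₁, (one_mul _).symm⟩
    obtain ⟨u, hu, hua⟩ := hpart P₁ _ hR₁
    have hu1 : u ≠ 1 := fun e => hne₁ (hainj (by rw [hua, e, one_mul]))
    obtain ⟨g, -, -, -, hg⟩ := hmv P₁ u hu v hv hu1 hv1
    exact ⟨g • R₁, by rw [hag, hua, hg]⟩
  exact D.all_points_absurd hsize P₀ R₀ hc a ha1 haV hainj hag hR₀ hpart hmv hall

/-- Pairs split `M` into at least three blocks. -/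
theorem blocks (hirr : ∀ N : Subgroup M, (∀ g : Q, ∀ x ∈ N, g • x ∈ N) → N = ⊥ ∨ N = ⊤)
    (hind : ∀ H : Subgroup Q, H.index ≠ 2) (hM : 16 ≤ Nat.card M) (P₀ : ι) :
    (∀ P R, P ≠ R → D.V R ≤ D.C P) ∧ (⨆ P, D.V P) = ⊤ ∧
      (∀ P, D.C P = ⨆ R, ⨆ _ : R ≠ P, D.V R) ∧ 3 ≤ Nat.card ι := by
  classical
  have hbig : ∀ P, D.size < Nat.card (D.C P) := by
    intro P
    by_contra hsmall
    push Not at hsmall
    have h := D.card_mul P
    rw [D.card_V] at h
    rcases le_or_gt (Nat.card (D.C P)) 2 with h2 | h2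
    · rcases D.size_eq with h8 | h8
      · rw [h8] at h; omega
      · rw [h8] at h
        exact D.point_absurd hirr P h8 (by omega)
    · exact D.small_absurd hirr hind P hsmall h2
  have horth : ∀ P R, P ≠ R → D.V R ≤ D.C P := by
    intro P R hne
    refine (D.linked P R hne fun h => ?_).1
    have hcard : Nat.card (D.C P) * Nat.card (D.C R) ≤ Nat.card M := by
      rw [← Nat.card_prod]
      exact Nat.card_le_card_of_injective _
        (Subgroup.mul_injective_of_disjoint (disjoint_iff.mpr h))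
    rw [← D.card_mul P, D.card_V, D.card_C_eq R P] at hcard
    have := hbig P
    have := Nat.le_of_mul_le_mul_left (a := Nat.card (D.C P)) (by rwa [mul_comm _ D.size])
      (by omega)
    omega
  have hspan : (⨆ P, D.V P) = ⊤ := by
    refine (hirr _ fun g x hx => ?_).resolve_left ?_
    · refine Subgroup.iSup_induction _ (C := fun y => g • y ∈ ⨆ P, D.V P) hx
        (fun P y hy => Subgroup.mem_iSup_of_mem (g • P) ((D.mem_V g P y).mpr hy)) ?_ ?_
      · rw [smul_one]; exact one_mem _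
      · intro y z hy hz; rw [smul_mul']; exact mul_mem hy hz
    · exact fun h => D.V_ne_bot P₀ (eq_bot_iff.mpr ((le_iSup D.V P₀).trans h.le))
  have hCeq : ∀ P, D.C P = ⨆ R, ⨆ _ : R ≠ P, D.V R := by
    intro P
    have hle : (⨆ R, ⨆ _ : R ≠ P, D.V R) ≤ D.C P :=
      iSup₂_le fun R hR => horth P R hR.symm
    refine le_antisymm ?_ hle
    have htop : (⊤ : Subgroup M) ≤ (⨆ R, ⨆ _ : R ≠ P, D.V R) ⊔ D.V P := by
      rw [← hspan]
      refine iSup_le fun R => ?_
      rcases eq_or_ne R P with rfl | hR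
      · exact le_sup_right
      · exact le_sup_of_le_left (le_iSup₂_of_le R hR le_rfl)
    intro x hx
    obtain ⟨y, hy, v, hv, rfl⟩ := Subgroup.mem_sup.mp (htop (Subgroup.mem_top x))
    have : v = 1 := D.eq_one_of_V_C hv (by simpa [← mul_assoc, D.sq] using mul_mem (hle hy) hx)
    rwa [this, mul_one]
  refine ⟨horth, hspan, hCeq, ?_⟩
  by_contra h3
  have hle : ∃ W, D.C P₀ ≤ W ∧ Nat.card W ≤ D.size := by
    by_cases h : ∃ R, R ≠ P₀
    · obtain ⟨R, hR⟩ := h
      refine ⟨D.V R, ?_, (D.card_V R).le⟩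
      rw [hCeq]
      refine iSup₂_le fun T hT => ?_
      have : T = R := by
        by_contra hTR
        have := Fintype.ofFinite ι
        have h' : ({P₀, R, T} : Finset ι).card ≤ Fintype.card ι := Finset.card_le_univ _
        rw [Finset.card_eq_three.mpr ⟨P₀, R, T, hR.symm, hT.symm, Ne.symm hTR, rfl⟩] at h'
        rw [Nat.card_eq_fintype_card] at h3
        omega
      rw [this]
    · push Not at h
      exact ⟨⊥, by rw [hCeq]; exact iSup₂_le fun T hT => absurd (h T) hT,
        by rw [Subgroup.card_bot]; have := D.size_ge; omega⟩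
  obtain ⟨W, h1, h2⟩ := hle
  have := Subgroup.card_le_of_le h1
  have := hbig P₀
  omega

end Pairs

end CfsgLib.InvolGoldschmidt.G4
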