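import Cfsg.Agent.Lib.Invol.Goldschmidt.NoCoverBasic
import Cfsg.Agent.Lib.Bender.GroupLemmas

/-!
Owner: helper1. S1169, the no-cover step.

* `trivGroup A C`: the elements inducing translations with values in `C`.
* `le_card_translations`: a character sum: there are at least `|A : C|` translations.
* `exists_four`: two translations at a second kernel fixing a point of the first, generating a four group.
* `noCoverStep`: that four group and coprime action contradict the transitivity on `A / C`.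
-/

set_option autoImplicit false
set_option linter.style.haveILetI false
set_option linter.unusedSectionVars false

namespace CfsgLib.Invol.Goldschmidt.NoCover

open Subgroup
open scoped commutatorElement

universe u

variable {G : Type u} [Group G] [Finite G] {S : Sylow 2 G} {A : Subgroup G}
  {P : G → Subgroup G → Subgroup G → Prop} {D : G → Subgroup G → Subgroup G → Subgroup G}
  {a : G} {V C C₁ : Subgroup G}

/-- The elements of `N(A) ⊓ C(C)` acting trivially on `A` modulo `C`. -/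
def trivGroup (A C : Subgroup G) : Subgroup G where
  carrier := {x | x ∈ normalizer (A : Set G) ∧ x ∈ centralizer (C : Set G) ∧ TrivMod A C x}
  one_mem' := ⟨one_mem _, one_mem _, fun b _ => by simp⟩
  mul_mem' := by
    rintro x y ⟨hx, hxc, htx⟩ ⟨hy, hyc, hty⟩
    refine ⟨mul_mem hx hy, mul_mem hxc hyc, fun b hb => ?_⟩
    have h1 := hty b hb
    have e : x * y * b * (x * y)⁻¹ * b⁻¹ =
        x * (y * b * y⁻¹ * b⁻¹) * x⁻¹ * (x * b * x⁻¹ * b⁻¹) := by group
    rw [e, ← mem_centralizer_iff.1 hxc _ h1, mul_inv_cancel_right]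
    exact mul_mem h1 (htx b hb)
  inv_mem' := by
    rintro x ⟨hx, hxc, htx⟩
    refine ⟨inv_mem hx, inv_mem hxc, fun b hb => ?_⟩
    have h1 := inv_mem (htx b hb)
    have e : x⁻¹ * b * x⁻¹⁻¹ * b⁻¹ = x⁻¹ * (x * b * x⁻¹ * b⁻¹)⁻¹ * x := by group
    rw [e, mul_assoc, mem_centralizer_iff.1 hxc _ h1, inv_mul_cancel_left]
    exact h1

theorem mem_trivGroup {x : G} :
    x ∈ trivGroup A C ↔ x ∈ normalizer (A : Set G) ∧ x ∈ centralizer (C : Set G) ∧ TrivMod A C x :=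
  Iff.rfl

theorem conj_of_mem {x c : G} (hx : x ∈ trivGroup A C) (hc : c ∈ C) : x * c * x⁻¹ = c := by
  rw [← mem_centralizer_iff.1 hx.2.1 c hc, mul_inv_cancel_right]

/-- The translations are normal in `N(A) ⊓ C(C)`. -/
theorem trivGroup_conj {g x : G} (hg : g ∈ normalizer (A : Set G) ⊓ centralizer (C : Set G))
    (hx : x ∈ trivGroup A C) : g * x * g⁻¹ ∈ trivGroup A C := by
  refine ⟨mul_mem (mul_mem hg.1 hx.1) (inv_mem hg.1), mul_mem (mul_mem hg.2 hx.2.1) (inv_mem hg.2),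
    fun b hb => ?_⟩
  have h1 := hx.2.2 (g⁻¹ * b * g) ((mem_normalizer_iff''.1 hg.1 b).1 hb)
  have e : g * x * g⁻¹ * b * (g * x * g⁻¹)⁻¹ * b⁻¹ =
      g * (x * (g⁻¹ * b * g) * x⁻¹ * (g⁻¹ * b * g)⁻¹) * g⁻¹ := by group
  rw [e, ← mem_centralizer_iff.1 hg.2 _ h1, mul_inv_cancel_right]
  exact h1

section

variable (hS : Setting S A) (hP : PreFacts A P D)
include hS hP

theorem lam_mul_left (hC : C ≤ A) {x y b : G} (hx : x ∈ trivGroup A C) (hy : y ∈ trivGroup A C)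
    (hb : b ∈ A) : x * y * b * (x * y)⁻¹ * b⁻¹ =
      (x * b * x⁻¹ * b⁻¹) * (y * b * y⁻¹ * b⁻¹) := by
  have h1 := hy.2.2 b hb
  have e : x * y * b * (x * y)⁻¹ * b⁻¹ =
      x * (y * b * y⁻¹ * b⁻¹) * x⁻¹ * (x * b * x⁻¹ * b⁻¹) := by group
  rw [e, conj_of_mem hx h1]
  exact hS.comm (hC h1) (hC (hx.2.2 b hb))

theorem lam_mul_right (hC : C ≤ A) {x b b' : G} (hx : x ∈ trivGroup A C) (hb : b ∈ A) (hb' : b' ∈ A) :
    x * (b * b') * x⁻¹ * (b * b')⁻¹ = (x * b * x⁻¹ * b⁻¹) * (x * b' * x⁻¹ * b'⁻¹) := by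
  have e : x * (b * b') * x⁻¹ * (b * b')⁻¹ = x * b * x⁻¹ * ((x * b' * x⁻¹ * b'⁻¹) * b⁻¹) := by group
  rw [e, hS.comm (hC (hx.2.2 b' hb')) (inv_mem hb)]
  group

/-- A translation which does not centralise `A` maps another kernel onto the kernel. -/
theorem onto (hC : IsKernel P C) {x : G} (hx : x ∈ trivGroup A C)
    (hxA : x ∉ centralizer (A : Set G)) : ∀ z ∈ C, ∃ q ∈ A, x * q * x⁻¹ * q⁻¹ = z := by
  obtain ⟨b, hb, hbx⟩ : ∃ b ∈ A, x * b * x⁻¹ ≠ b := by
    by_contra hall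
    push Not at hall
    exact hxA (mem_centralizer_iff.2 fun b hb => (mul_inv_eq_iff_eq_mul.1 (hall b hb)).symm)
  have hbC : b ∉ C := fun h => hbx (conj_of_mem hx h)
  obtain ⟨C₂, h₂, hne, q, hq, c, hc, -, rfl⟩ := covered hS hP hC hb hbC
  have hqfix : x * q * x⁻¹ ≠ q := fun h => hbx (by
    calc x * (q * c) * x⁻¹ = (x * q * x⁻¹) * (x * c * x⁻¹) := by group
      _ = q * c := by rw [h, conj_of_mem hx hc])
  have h₂A := IsKernel.le hS hP h₂
  let f : ↥C₂ → ↥C := fun p => ⟨x * p * x⁻¹ * (p : G)⁻¹, hx.2.2 _ (h₂A p.2)⟩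
  have hinj : Function.Injective f := by
    intro p p' e
    have e' : x * (p : G) * x⁻¹ * (p : G)⁻¹ = x * (p' : G) * x⁻¹ * (p' : G)⁻¹ := congrArg Subtype.val e
    by_contra hpp
    have hd : ((p : G)⁻¹ * p') ∈ C₂ := mul_mem (inv_mem p.2) p'.2
    have hd1 : (p : G)⁻¹ * p' ≠ 1 := fun h => hpp (Subtype.ext (inv_mul_eq_one.1 h))
    have h3 := lam_mul_right hS hP (IsKernel.le hS hP hC) hx (h₂A p.2) (h₂A hd)
    rw [mul_inv_cancel_left, ← e'] at h3
    exact hqfix (fix_member hS hP hC h₂ hne hx.1 hx.2.2 hd hd1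
      (mul_inv_eq_one.1 (mul_eq_left.1 h3.symm)) hq)
  have hbij := hinj.bijective_of_nat_card_le (IsKernel.card_eq hS hP hC h₂).le
  intro z hz
  obtain ⟨p, hp⟩ := hbij.2 ⟨z, hz⟩
  exact ⟨p, h₂A p.2, congrArg Subtype.val hp⟩

/-- A smallest cover has a nontrivial translation. -/
theorem exists_translation (h : MinCover P a V C) :
    ∃ x ∈ D a V C ⊓ trivGroup A C, x ∉ centralizer (A : Set G) := by
  obtain ⟨x, hx, ht, hxA⟩ := hP.transl h.1.1 h.1.2
  exact ⟨x, ⟨hx, (hP.le h.1.1 hx).1, (hP.le h.1.1 hx).2, ht⟩, hxA⟩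

/-- **The character sum.** -/
theorem le_card_translations (h : MinCover P a V C) :
    Nat.card ↥((D a V C ⊓ trivGroup A C) ⊓ centralizer (A : Set G)) * C.relIndex A ≤
      Nat.card ↥(D a V C ⊓ trivGroup A C) := by
  classical
  haveI := Fintype.ofFinite G
  have hK : IsKernel P C := ⟨a, V, h⟩
  have hCA := IsKernel.le hS hP hK
  set R := D a V C ⊓ trivGroup A C with hR
  obtain ⟨ha, ha1⟩ := hP.mem h.1.1
  -- a subgroup of index two in `C`
  obtain ⟨H, hHmax⟩ := (Set.toFinite {H : Subgroup G | H ≤ C ∧ a ∉ H}).exists_maximal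
    ⟨⊥, bot_le, fun h => ha1 (mem_bot.1 h)⟩
  obtain ⟨hHC, haH⟩ := hHmax.1
  have hstep : ∀ y ∈ C, y ∉ H → a * y ∈ H := by
    intro y hy hyH
    by_contra hay
    have hn : zpowers y ≤ normalizer (H : Set G) := by
      refine zpowers_le.2 (mem_normalizer_iff.2 fun w => ⟨fun hw => ?_, fun hw => ?_⟩)
      · rwa [conj_comm_of_mem hS hCA (hCA (hHC hw)) hy]
      · have e : w = y⁻¹ * (y * w * y⁻¹) * y⁻¹⁻¹ := by group
        rw [e, conj_comm_of_mem hS hCA (hCA (hHC hw)) (inv_mem hy)]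
        exact hw
    have hmem : a ∈ zpowers y ⊔ H := by
      by_contra hna
      exact hyH (hHmax.2 ⟨sup_le (zpowers_le.2 hy) hHC, hna⟩ le_sup_right
        (mem_sup_left (mem_zpowers y)))
    obtain ⟨w, ⟨i, rfl⟩, w', hw', e⟩ := (CfsgLib.Core.mem_sup_iff_mul hn).1 hmem
    simp only at e
    rcases Int.even_or_odd' i with ⟨k, rfl | rfl⟩
    · exact haH (by rw [e, zpow_mul, zpow_two, hS.sq (hCA hy), one_zpow, one_mul]; exact hw')
    · rw [zpow_add_one, zpow_mul, zpow_two, hS.sq (hCA hy), one_zpow, one_mul] at e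
      refine hay ?_
      rw [e, hS.comm (hCA hy) (hCA (hHC hw')), mul_assoc, hS.sq (hCA hy), mul_one]
      exact hw'
  let χ : G → ℤ := fun y => if y ∈ H then 1 else -1
  have hχ : ∀ y ∈ C, ∀ z ∈ C, χ (y * z) = χ y * χ z := by
    intro y hy z hz
    by_cases h1 : y ∈ H <;> by_cases h2 : z ∈ H
    · simp [χ, h1, h2, mul_mem h1 h2]
    · simp [χ, h1, h2, H.mul_mem_cancel_left h1]
    · simp [χ, h1, h2, H.mul_mem_cancel_right h2]
    · have h3 : y * z ∈ H := by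
        have := mul_mem (hstep y hy h1) (hstep z hz h2)
        rwa [hS.comm (hCA ha) (hCA hy), mul_assoc y, ← mul_assoc a a, hS.sq (hCA ha), one_mul] at this
      simp [χ, h1, h2, h3]
  set lam : G → G → G := fun x b => x * b * x⁻¹ * b⁻¹ with hlam
  have hmemC : ∀ (x : ↥R) (b : ↥A), lam x b ∈ C := fun x b => (mem_inf.1 x.2).2.2.2 _ b.2
  let F : ↥R → ↥A → ℤ := fun x b => χ (lam x b)
  -- the row sums
  have hrow : ∀ x : ↥R, (if (x : G) ∈ centralizer (A : Set G) then (Nat.card A : ℤ) else 0) ≤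
      ∑ b : ↥A, F x b := by
    intro x
    by_cases hall : ∀ b : ↥A, F x b = 1
    · rw [Finset.sum_congr rfl fun b _ => hall b, Finset.sum_const, Finset.card_univ, nsmul_one,
        Nat.card_eq_fintype_card]
      split
      · exact le_rfl
      · positivity
    push Not at hall
    obtain ⟨b₀, hb₀⟩ := hall
    have hm1 : F x b₀ = -1 := by
      simp only [F, χ] at hb₀ ⊢
      split at hb₀
      · exact absurd rfl hb₀
      · next hn => simp [hn]
    have hxA : (x : G) ∉ centralizer (A : Set G) := fun hx => by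
      have : lam x b₀ = 1 := by
        simp only [hlam]
        rw [← mem_centralizer_iff.1 hx _ b₀.2, mul_inv_cancel_right, mul_inv_cancel]
      rw [show F x b₀ = 1 by simp [F, χ, this, one_mem]] at hm1
      exact absurd hm1 (by norm_num)
    have hsum : ∑ b : ↥A, F x b = 0 := by
      have h1 : ∑ b : ↥A, F x (b * b₀) = ∑ b : ↥A, F x b :=
        Fintype.sum_equiv (Equiv.mulRight b₀) _ _ fun b => rfl
      have h2 : ∀ b : ↥A, F x (b * b₀) = - F x b := fun b => by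
        show χ (lam x ((b : G) * b₀)) = _
        rw [hlam]
        beta_reduce
        rw [lam_mul_right hS hP hCA (mem_inf.1 x.2).2 b.2 b₀.2, hχ _ (hmemC x b) _ (hmemC x b₀)]
        show F x b * F x b₀ = _
        rw [hm1, mul_neg_one]
      rw [Finset.sum_congr rfl fun b _ => h2 b, Finset.sum_neg_distrib] at h1
      omega
    rw [hsum, if_neg hxA]
  -- the column sums
  have hcol : ∀ b : ↥A, ∑ x : ↥R, F x b = if (b : G) ∈ C then (Nat.card R : ℤ) else 0 := by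
    intro b
    by_cases hb : (b : G) ∈ C
    · have h1 : ∀ x : ↥R, F x b = 1 := fun x => by
        have e : lam x b = 1 := by
          simp only [hlam]
          rw [conj_of_mem (mem_inf.1 x.2).2 hb, mul_inv_cancel]
        simp [F, χ, e, one_mem]
      rw [if_pos hb, Finset.sum_congr rfl fun x _ => h1 x, Finset.sum_const, Finset.card_univ, nsmul_one,
        Nat.card_eq_fintype_card]
    rw [if_neg hb]
    obtain ⟨x₀, hx₀⟩ : ∃ x₀ : ↥R, lam x₀ b ∉ H := by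
      by_contra hall
      push Not at hall
      -- the elements killed by all these characters
      have hkey : ∀ b' ∈ A, ∀ x : ↥R, lam x b' ∈ H := by
        intro b' hb'
        by_cases hb'C : b' ∈ C
        · intro x
          simp only [hlam]
          rw [conj_of_mem (mem_inf.1 x.2).2 hb'C, mul_inv_cancel]
          exact one_mem _
        obtain ⟨g, hg, hgb⟩ := hP.trans h.1.1 b b.2 hb b' hb' hb'C
        intro x
        have hgN := hP.le h.1.1 hg
        have hgbA : g * (b : G) * g⁻¹ ∈ A := (mem_normalizer_iff.1 hgN.1 _).1 b.2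
        have e : b' = (g * (b : G) * g⁻¹ * b'⁻¹)⁻¹ * (g * (b : G) * g⁻¹) := by group
        have hx' : g⁻¹ * (x : G) * g⁻¹⁻¹ ∈ R :=
          mem_inf.2 ⟨mul_mem (mul_mem (inv_mem hg) (mem_inf.1 x.2).1) (inv_mem (inv_mem hg)),
            trivGroup_conj (inv_mem hgN) (mem_inf.1 x.2).2⟩
        have h1 := hall ⟨_, hx'⟩
        simp only [hlam] at h1 ⊢
        rw [e, lam_mul_right hS hP hCA (mem_inf.1 x.2).2 (hCA (inv_mem hgb)) hgbA,
          conj_of_mem (mem_inf.1 x.2).2 (inv_mem hgb), mul_inv_cancel, one_mul,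
          show (x : G) * (g * (b : G) * g⁻¹) * (x : G)⁻¹ * (g * (b : G) * g⁻¹)⁻¹ =
            g * (g⁻¹ * (x : G) * g⁻¹⁻¹ * b * (g⁻¹ * (x : G) * g⁻¹⁻¹)⁻¹ * (b : G)⁻¹) * g⁻¹ by group,
          ← mem_centralizer_iff.1 hgN.2 _ (hHC h1), mul_inv_cancel_right]
        exact h1
      obtain ⟨x, hx, hxA⟩ := exists_translation hS hP h
      obtain ⟨q, hq, e⟩ := onto hS hP hK hx.2 hxA a ha
      exact haH (e ▸ hkey q hq ⟨x, hx⟩)
    have h1 : ∑ x : ↥R, F (x₀ * x) b = ∑ x : ↥R, F x b :=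
      Fintype.sum_equiv (Equiv.mulLeft x₀) _ _ fun x => rfl
    have h2 : ∀ x : ↥R, F (x₀ * x) b = - F x b := fun x => by
      show χ (lam ((x₀ : G) * x) b) = _
      rw [hlam]
      beta_reduce
      rw [lam_mul_left hS hP hCA (mem_inf.1 x₀.2).2 (mem_inf.1 x.2).2 b.2,
        hχ _ (hmemC x₀ b) _ (hmemC x b)]
      show F x₀ b * F x b = _
      rw [show F x₀ b = -1 by simp [F, χ, hx₀], neg_one_mul]
    rw [Finset.sum_congr rfl fun x _ => h2 x, Finset.sum_neg_distrib] at h1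
    omega
  have h1 := Finset.sum_le_sum fun x (_ : x ∈ (Finset.univ : Finset ↥R)) => hrow x
  rw [Finset.sum_comm, Finset.sum_congr rfl fun b _ => hcol b, ← Finset.sum_filter, ← Finset.sum_filter,
    Finset.sum_const, Finset.sum_const, nsmul_eq_mul, nsmul_eq_mul] at h1
  have c1 : (Finset.univ.filter fun x : ↥R => (x : G) ∈ centralizer (A : Set G)).card =
      Nat.card ↥(R ⊓ centralizer (A : Set G)) := by
    rw [← Fintype.card_subtype, ← Nat.card_eq_fintype_card]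
    exact Nat.card_congr (Equiv.subtypeSubtypeEquivSubtypeInter (fun x => x ∈ R) _)
  have c2 : (Finset.univ.filter fun b : ↥A => (b : G) ∈ C).card = Nat.card C := by
    rw [← Fintype.card_subtype, ← Nat.card_eq_fintype_card]
    exact Nat.card_congr (Equiv.subtypeSubtypeEquivSubtype fun {x} hx => hCA hx)
  rw [c1, c2] at h1
  have hA : Nat.card C * C.relIndex A = Nat.card A := by
    rw [← relIndex_bot_left, relIndex_mul_relIndex _ _ _ bot_le hCA, relIndex_bot_left]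
  norm_cast at h1
  rw [← hA] at h1
  exact Nat.le_of_mul_le_mul_left (by linarith) (Nat.card_pos (α := C))

/-- The translations fixing a point. -/
theorem card_translations_le (h : MinCover P a V C) {p : G} (hp : p ∈ A) :
    Nat.card ↥(D a V C ⊓ trivGroup A C) ≤
      Nat.card C * Nat.card ↥((D a V C ⊓ trivGroup A C) ⊓ centralizer ({p} : Set G)) := by
  set R := D a V C ⊓ trivGroup A C with hR
  have hCA := le_right hS hP h.1.1
  let φ : ↥R →* ↥C :=
    { toFun := fun x => ⟨(x : G) * p * (x : G)⁻¹ * p⁻¹, (mem_inf.1 x.2).2.2.2 p hp⟩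
      map_one' := Subtype.ext (by simp)
      map_mul' := fun x y => Subtype.ext (lam_mul_left hS hP hCA (mem_inf.1 x.2).2 (mem_inf.1 y.2).2 hp) }
  rw [Subgroup.card_eq_card_quotient_mul_card_subgroup φ.ker,
    Nat.card_congr (QuotientGroup.quotientKerEquivRange φ).toEquiv]
  refine Nat.mul_le_mul (card_le_card_group _) ?_
  refine Nat.card_le_card_of_injective (fun x => ⟨((x : ↥R) : G), mem_inf.2 ⟨(x : ↥R).2, ?_⟩⟩)
    fun x y e => Subtype.ext (Subtype.ext (congrArg Subtype.val e :))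
  have h1 : ((x : ↥R) : G) * p * ((x : ↥R) : G)⁻¹ * p⁻¹ = 1 := congrArg Subtype.val (x.2 : φ x = 1)
  exact mem_centralizer_singleton_iff.2 (mul_inv_eq_iff_eq_mul.1 (mul_inv_eq_one.1 h1))

/-- A translation at two kernels centralises `A`. -/
theorem mem_centralizer_of_both (hC : IsKernel P C) (h₁ : IsKernel P C₁) (hne : C₁ ≠ C) {t : G}
    (ht : t ∈ trivGroup A C₁) (ht' : TrivMod A C t) : t ∈ centralizer (A : Set G) :=
  mem_centralizer_iff.2 fun b hb => by
    have h2 : t * b * t⁻¹ * b⁻¹ ∈ C₁ ⊓ C := ⟨ht.2.2 b hb, ht' b hb⟩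
    rw [disjoint hS hP h₁ hC hne, mem_bot, mul_inv_eq_one, mul_inv_eq_iff_eq_mul] at h2
    exact h2.symm

/-- A translation fixing a point of another kernel fixes the sum of the two kernels. -/
theorem fix_sum (hC : IsKernel P C) (h₁ : IsKernel P C₁) (hne : C₁ ≠ C) {x : G}
    (hx : x ∈ trivGroup A C) {p : G} (hp : p ∈ C₁) (hp1 : p ≠ 1) (hfix : x * p * x⁻¹ = p) {b : G}
    (hb : b ∈ C₁ ⊔ C) : x * b * x⁻¹ = b := by
  have hn : C₁ ≤ normalizer (C : Set G) := fun v hv => mem_normalizer_iff.2 fun y => by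
    constructor
    · intro hy
      rwa [conj_comm_of_mem hS (IsKernel.le hS hP h₁) (IsKernel.le hS hP hC hy) hv]
    · intro hy
      have e : y = v⁻¹ * (v * y * v⁻¹) * v⁻¹⁻¹ := by group
      rw [e, conj_comm_of_mem hS (IsKernel.le hS hP h₁) (IsKernel.le hS hP hC hy) (inv_mem hv)]
      exact hy
  obtain ⟨q, hq, c, hc, rfl⟩ := (CfsgLib.Core.mem_sup_iff_mul hn).1 hb
  calc x * (q * c) * x⁻¹ = (x * q * x⁻¹) * (x * c * x⁻¹) := by group
    _ = q * c := by rw [fix_member hS hP hC h₁ hne hx.1 hx.2.2 hp hp1 hfix hq, conj_of_mem hx hc]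

/-- Two kernels and two translations at the second fixing a point of the first. -/
theorem exists_four (h : MinCover P a V C) :
    ∃ a₁ V₁ C₁, MinCover P a₁ V₁ C₁ ∧ C₁ ≠ C ∧ C₁ ⊔ C ≠ A ∧ ∃ p ∈ C, p ≠ 1 ∧
      4 * Nat.card ↥((D a₁ V₁ C₁ ⊓ trivGroup A C₁) ⊓ centralizer (A : Set G)) ≤
        Nat.card ↥((D a₁ V₁ C₁ ⊓ trivGroup A C₁) ⊓ centralizer ({p} : Set G)) := by
  have hK : IsKernel P C := ⟨a, V, h⟩
  have hCA := le_right hS hP h.1.1
  obtain ⟨ha, ha1⟩ := hP.mem h.1.1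
  have hrel : ∀ {X : Subgroup G}, X ≤ A → Nat.card X * X.relIndex A = Nat.card A := fun hX => by
    rw [← relIndex_bot_left, relIndex_mul_relIndex _ _ _ bot_le hX, relIndex_bot_left]
  -- a fixed point outside the kernel: the sum of two kernels is proper
  obtain ⟨x, hx, hxA⟩ := exists_translation hS hP h
  obtain ⟨b, hb, hbC, hbx⟩ := hP.fixed h.1.1 x hx.1 hx.2.2.2
  obtain ⟨C₁, h₁, hne, q, hq, c, hc, hq1, hbq⟩ := covered hS hP hK hb hbC
  have hqfix : x * q * x⁻¹ = q := by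
    have e : q = b * c⁻¹ := by rw [hbq, mul_inv_cancel_right]
    calc x * q * x⁻¹ = (x * b * x⁻¹) * (x * c * x⁻¹)⁻¹ := by rw [e]; group
      _ = q := by rw [hbx, conj_of_mem hx.2 hc, ← e]
  have hsum : C₁ ⊔ C ≠ A := fun e => hxA (mem_centralizer_iff.2 fun w hw =>
    (mul_inv_eq_iff_eq_mul.1 (fix_sum hS hP hK h₁ hne hx.2 hq hq1 hqfix (e ▸ hw))).symm)
  obtain ⟨a₁, V₁, hm₁⟩ := id h₁
  refine ⟨a₁, V₁, C₁, hm₁, hne, hsum, a, ha, ha1, ?_⟩
  set r := C₁.relIndex A with hr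
  set R := D a₁ V₁ C₁ ⊓ trivGroup A C₁ with hR
  have hC1A := IsKernel.le hS hP h₁
  have hcc : Nat.card C₁ = Nat.card C := IsKernel.card_eq hS hP h₁ hK
  have hsum_card : Nat.card ↥(C₁ ⊔ C) = Nat.card C₁ * Nat.card C :=
    card_sup_of_disjoint hS hC1A hCA (disjoint hS hP h₁ hK hne)
  obtain ⟨m, hm⟩ : Nat.card C₁ ∣ r := by
    have h2 := card_dvd_of_le (sup_le hC1A hCA : C₁ ⊔ C ≤ A)
    rw [hsum_card, ← hrel hC1A, ← hcc] at h2
    exact (Nat.mul_dvd_mul_iff_left Nat.card_pos).1 h2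
  have hm1 : m ≠ 1 := fun e => hsum (eq_of_le_of_card_ge (sup_le hC1A hCA)
    (by rw [hsum_card, ← hrel hC1A, ← hr, hm, e, mul_one, hcc]))
  have hcount := le_card_translations hS hP hm₁
  rw [← hR, ← hr, hm] at hcount
  rcases Nat.lt_or_ge m 4 with h4 | h4
  swap
  · have h5 := card_translations_le hS hP hm₁ (hCA ha)
    rw [← hR] at h5
    have hc0 := Nat.card_pos (α := C₁)
    refine Nat.le_of_mul_le_mul_left ?_ hc0
    calc Nat.card C₁ * (4 * Nat.card ↥(R ⊓ centralizer (A : Set G)))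
        ≤ Nat.card C₁ * (m * Nat.card ↥(R ⊓ centralizer (A : Set G))) :=
          Nat.mul_le_mul_left _ (Nat.mul_le_mul_right _ h4)
      _ = Nat.card ↥(R ⊓ centralizer (A : Set G)) * (Nat.card C₁ * m) := by ring
      _ ≤ _ := hcount.trans h5
  exfalso
  have hAm : Nat.card A = Nat.card C₁ * Nat.card C₁ * m := by
    rw [← hrel hC1A, ← hr, hm, mul_assoc]
  have hm2 : m = 2 := by
    have hm0 : m ≠ 0 := fun e => by
      have := Nat.card_pos (α := A)
      rw [hAm, e, mul_zero] at this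
      omega
    by_contra hne2
    have hm3 : m = 3 := by omega
    haveI : Fact (Nat.Prime 3) := ⟨Nat.prime_three⟩
    obtain ⟨w, hw⟩ := exists_prime_orderOf_dvd_card' (G := ↥A) 3 ⟨Nat.card C₁ * Nat.card C₁, by
      rw [hAm, hm3, mul_comm]⟩
    have h2 : orderOf w ∣ 2 := orderOf_dvd_of_pow_eq_one (Subtype.ext (by
      rw [Subgroup.coe_pow, pow_two]; exact hS.sq w.2))
    rw [hw] at h2
    omega
  subst hm2
  have hc4 : 4 ≤ Nat.card C₁ := by
    have h8 := hP.big hm₁.1.1 hm₁.1.2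
    rw [← hr, hm] at h8
    omega
  -- two members through one point
  obtain ⟨b', hb', hb'H⟩ : ∃ b' ∈ A, b' ∉ C ⊔ C₁ := by
    by_contra hall
    push Not at hall
    exact hsum (le_antisymm (sup_le hC1A hCA) (fun w hw => sup_comm C C₁ ▸ hall w hw))
  obtain ⟨C₂, h₂, hne₂, q₂, hq₂, c₂, hc₂, hq₂1, hbq₂⟩ := covered hS hP h₁ hb'
    (fun h' => hb'H (mem_sup_right h'))
  set H₁ := C ⊔ C₁ with hH₁
  set H₂ := C₂ ⊔ C₁ with hH₂
  have hH₁A : H₁ ≤ A := sup_le hCA hC1A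
  have hH₂A : H₂ ≤ A := sup_le (IsKernel.le hS hP h₂) hC1A
  have hcH₁ : Nat.card H₁ = Nat.card C₁ * Nat.card C₁ := by
    rw [hH₁, sup_comm, hsum_card, hcc]
  have hcH₂ : Nat.card H₂ = Nat.card C₁ * Nat.card C₁ := by
    rw [hH₂, card_sup_of_disjoint hS (IsKernel.le hS hP h₂) hC1A (disjoint hS hP h₂ h₁ hne₂),
      IsKernel.card_eq hS hP h₂ h₁]
  have hn : H₁ ≤ normalizer (H₂ : Set G) := fun v hv => mem_normalizer_iff.2 fun y => by
    constructor
    · intro hy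
      rwa [conj_comm_of_mem hS hH₁A (hH₂A hy) hv]
    · intro hy
      have e : y = v⁻¹ * (v * y * v⁻¹) * v⁻¹⁻¹ := by group
      rw [e, conj_comm_of_mem hS hH₁A (hH₂A hy) (inv_mem hv)]
      exact hy
  have hmul := CfsgLib.Core.card_sup_mul_card_inf H₁ H₂ hn
  have htop : H₁ ⊔ H₂ = A := by
    obtain ⟨k, hk⟩ := card_dvd_of_le (le_sup_left : H₁ ≤ H₁ ⊔ H₂)
    have hle := card_le_of_le (sup_le hH₁A hH₂A : H₁ ⊔ H₂ ≤ A)
    rcases Nat.lt_or_ge k 2 with hk2 | hk2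
    · exfalso
      have : H₁ = H₁ ⊔ H₂ := eq_of_le_of_card_ge le_sup_left (by
        rw [hk]
        calc Nat.card H₁ * k ≤ Nat.card H₁ * 1 := Nat.mul_le_mul_left _ (by omega)
          _ = Nat.card H₁ := mul_one _)
      refine hb'H (this ▸ mem_sup_right ?_)
      rw [hbq₂]
      exact mul_mem (mem_sup_left hq₂) (mem_sup_right hc₂)
    · refine eq_of_le_of_card_ge (sup_le hH₁A hH₂A) ?_
      rw [hAm, hk, hcH₁]
      exact Nat.mul_le_mul_left _ hk2
  obtain ⟨p, ⟨hp₁, hp₂⟩, hpC⟩ : ∃ p ∈ H₁ ⊓ H₂, p ∉ C₁ := by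
    by_contra hall
    push Not at hall
    have h6 := card_le_of_le (fun w hw => hall w hw : H₁ ⊓ H₂ ≤ C₁)
    rw [htop, hcH₁, hcH₂, hAm] at hmul
    have h7 : Nat.card C₁ * Nat.card C₁ * (2 * Nat.card C₁) ≥
        Nat.card C₁ * Nat.card C₁ * (Nat.card C₁ * Nat.card C₁) := by
      rw [← hmul, mul_assoc (Nat.card C₁ * Nat.card C₁) 2]
      exact Nat.mul_le_mul_left _ (Nat.mul_le_mul_left _ h6)
    have h8 := Nat.le_of_mul_le_mul_left h7 (Nat.mul_pos Nat.card_pos Nat.card_pos)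
    have h9 := Nat.le_of_mul_le_mul_right h8 Nat.card_pos
    omega
  -- a translation fixing `p` centralises `A`
  have hp : p ∈ A := hH₁A hp₁
  have hall : R ⊓ centralizer ({p} : Set G) ≤ R ⊓ centralizer (A : Set G) := by
    intro t ht
    refine ⟨ht.1, ?_⟩
    have htp : t * p * t⁻¹ = p := by
      rw [← mem_centralizer_iff.1 ht.2 p rfl, mul_inv_cancel_right]
    have key : ∀ Y : Subgroup G, IsKernel P Y → Y ≠ C₁ → p ∈ Y ⊔ C₁ → ∀ w ∈ Y ⊔ C₁, t * w * t⁻¹ = w := by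
      intro Y hY hYne hpY w hw
      have hYn : Y ≤ normalizer (C₁ : Set G) := fun v hv => mem_normalizer_iff.2 fun y => by
        constructor
        · intro hy
          rwa [conj_comm_of_mem hS (IsKernel.le hS hP hY) (hC1A hy) hv]
        · intro hy
          have e : y = v⁻¹ * (v * y * v⁻¹) * v⁻¹⁻¹ := by group
          rw [e, conj_comm_of_mem hS (IsKernel.le hS hP hY) (hC1A hy) (inv_mem hv)]
          exact hy
      obtain ⟨q', hq', c', hc', e'⟩ := (CfsgLib.Core.mem_sup_iff_mul hYn).1 hpY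
      have hq'1 : q' ≠ 1 := fun e1 => hpC (by rw [e', e1, one_mul]; exact hc')
      refine fix_sum hS hP h₁ hY hYne (mem_inf.1 ht.1).2 hq' hq'1 ?_ hw
      calc t * q' * t⁻¹ = (t * p * t⁻¹) * (t * c' * t⁻¹)⁻¹ := by rw [e']; group
        _ = q' := by rw [htp, conj_of_mem (mem_inf.1 ht.1).2 hc', e', mul_inv_cancel_right]
    have hle : A ≤ centralizer ({t} : Set G) := htop ▸ sup_le
      (fun w hw => mem_centralizer_singleton_iff.2
        (mul_inv_eq_iff_eq_mul.1 (key C hK hne.symm hp₁ w hw)).symm)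
      (fun w hw => mem_centralizer_singleton_iff.2
        (mul_inv_eq_iff_eq_mul.1 (key C₂ h₂ hne₂ hp₂ w hw)).symm)
    exact mem_centralizer_iff.2 fun w hw => mem_centralizer_singleton_iff.1 (hle hw)
  have h10 := hcount.trans ((card_translations_le hS hP hm₁ hp).trans
    (Nat.mul_le_mul_left _ (card_le_of_le hall)))
  rw [mul_comm, mul_assoc] at h10
  have h11 := Nat.le_of_mul_le_mul_left h10 Nat.card_pos
  have h12 := Nat.card_pos (α := ↥(R ⊓ centralizer (A : Set G)))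
  omega

end

/-- **The no-cover step.** -/
theorem noCoverStep : NoCoverStep.{u} := by
  intro G _ _ S A P D hS hP a₀ V₀ C₀ h₀
  by_contra hne₀
  obtain ⟨a, V, C, h⟩ := exists_min (P := P) ⟨h₀, hne₀⟩
  obtain ⟨a₁, V₁, C₁, h₁, hne, hsum, p, hp, hp1, hfour⟩ := exists_four hS hP h
  have hK : IsKernel P C := ⟨a, V, h⟩
  have hK₁ : IsKernel P C₁ := ⟨a₁, V₁, h₁⟩
  have hCA := le_right hS hP h.1.1
  have hC1A := le_right hS hP h₁.1.1
  set R := D a₁ V₁ C₁ ⊓ trivGroup A C₁ with hR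
  set E := R ⊓ centralizer ({p} : Set G) with hE
  set Z := R ⊓ centralizer (A : Set G) with hZ
  have hZE : Z ≤ E := fun z hz => ⟨hz.1, mem_centralizer_singleton_iff.2
    (mem_centralizer_iff.1 hz.2 p (hCA hp)).symm⟩
  have hcardZ := Nat.card_pos (α := Z)
  -- two elements generating a four group modulo `Z`
  obtain ⟨e₁, he₁, he₁Z⟩ : ∃ e ∈ E, e ∉ Z := by
    by_contra hall
    push Not at hall
    have := card_le_of_le (fun w hw => hall w hw : E ≤ Z)
    omega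
  obtain ⟨e₂, he₂, he₂Z, he₁₂⟩ : ∃ e ∈ E, e ∉ Z ∧ e₁⁻¹ * e ∉ Z := by
    by_contra hall
    push Not at hall
    have hsub : (E : Set G) ⊆ (Z : Set G) ∪ (e₁ * ·) '' (Z : Set G) := fun w hw => by
      by_cases hwZ : w ∈ Z
      · exact Or.inl hwZ
      · exact Or.inr ⟨_, hall w hw hwZ, mul_inv_cancel_left e₁ w⟩
    have h1 := (Set.ncard_le_ncard hsub (Set.toFinite _)).trans (Set.ncard_union_le _ _)
    rw [Set.ncard_image_of_injective _ (mul_right_injective e₁), ← Nat.card_coe_set_eq,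
      ← Nat.card_coe_set_eq] at h1
    have h2 : Nat.card ↥(E : Set G) = Nat.card E := rfl
    have h3 : Nat.card ↥(Z : Set G) = Nat.card Z := rfl
    omega
  -- elements of `E`
  have hEfix : ∀ e ∈ E, e ∈ normalizer (A : Set G) ⊓ centralizer (C : Set G) := by
    intro e he
    have hfix : e * p * e⁻¹ = p := by
      rw [← mem_centralizer_iff.1 he.2 p rfl, mul_inv_cancel_right]
    refine ⟨(mem_inf.1 he.1).2.1, mem_centralizer_iff.2 fun c hc => ?_⟩
    exact (mul_inv_eq_iff_eq_mul.1 (fix_member hS hP hK₁ hK hne.symm (mem_inf.1 he.1).2.1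
      (mem_inf.1 he.1).2.2.2 hp hp1 hfix hc)).symm
  have hEmod : ∀ e ∈ E, e ∉ Z → ¬ TrivMod A C e := fun e he heZ ht =>
    heZ ⟨he.1, mem_centralizer_of_both hS hP hK hK₁ hne (mem_inf.1 he.1).2 ht⟩
  have hED : ∀ e ∈ E, cj e (D a V C) = D a V C := by
    intro e he
    obtain ⟨heN, heC⟩ := hEfix e he
    obtain ⟨hPe, hDe⟩ := hP.conj h.1.1 e heN
    have hfixC : ∀ c ∈ C, e * c * e⁻¹ = c := fun c hc => by
      rw [← mem_centralizer_iff.1 heC c hc, mul_inv_cancel_right]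
    have hcC : cj e C = C := CfsgLib.DisjointKernels.cj_eq_self hfixC
    rw [hcC, hfixC a (hP.mem h.1.1).1] at hPe hDe
    rcases hP.same h.1.1 hPe with ⟨eV, -⟩ | ⟨eV, -⟩
    · rw [← eV] at hDe
      exact hDe.symm
    · exact absurd ((hP.sup hPe).symm.trans (sup_eq_right.2 eV)).symm (right_ne hS hP h.1.1)
  -- the quotient by the translations
  set N₀ := normalizer (A : Set G) ⊓ centralizer (C : Set G) with hN₀
  haveI hTn : ((trivGroup A C).subgroupOf N₀).Normal :=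
    ⟨fun x hx g => mem_subgroupOf.2 (trivGroup_conj g.2 (mem_subgroupOf.1 hx))⟩
  set π := QuotientGroup.mk' ((trivGroup A C).subgroupOf N₀) with hπ
  have hπ1 : ∀ w : ↥N₀, π w = 1 ↔ (w : G) ∈ trivGroup A C := fun w =>
    (QuotientGroup.eq_one_iff w).trans mem_subgroupOf
  set RD := ((D a V C).subgroupOf N₀).map π with hRD
  have hodd : Odd (Nat.card RD) := by
    by_contra hev
    haveI : Fact (Nat.Prime 2) := ⟨Nat.prime_two⟩
    obtain ⟨⟨w, d, hd, rfl⟩, hw⟩ := exists_prime_orderOf_dvd_card' (G := ↥RD) 2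
      (Nat.not_odd_iff_even.1 hev).two_dvd
    obtain ⟨n, hn, ht⟩ := hP.odd h.1.1 _ (mem_subgroupOf.1 hd)
    have h1 : π d ^ n = 1 := by
      rw [← map_pow, hπ1, Subgroup.coe_pow]
      exact ⟨pow_mem d.2.1 n, pow_mem d.2.2 n, ht⟩
    replace hw : orderOf (π d) = 2 := (Subgroup.orderOf_coe _).trans hw
    have h2 := orderOf_dvd_of_pow_eq_one h1
    rw [hw] at h2
    exact Nat.not_even_iff_odd.2 hn (even_iff_two_dvd.2 h2)
  -- the stabilizer of the sum of the kernels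
  set L := C₁ ⊔ C with hL
  set W := ((normalizer (L : Set G)).subgroupOf N₀).map π with hW
  have hsq : ∀ e ∈ E, ∀ he : e ∈ N₀, e ∉ Z → orderOf (π ⟨e, he⟩) = 2 := by
    intro e he heN heZ
    refine CfsgLib.Signalizer.orderOf_eq_two_of
      (fun h1 => hEmod e he heZ ((hπ1 _).1 h1).2.2) ?_
    rw [← map_mul, hπ1]
    refine ⟨mul_mem heN.1 heN.1, mul_mem heN.2 heN.2, fun b hb => ?_⟩
    have ht := (mem_inf.1 he.1).2
    show e * e * b * (e * e)⁻¹ * b⁻¹ ∈ C
    rw [show e * e * b * (e * e)⁻¹ = e * (e * b * e⁻¹) * e⁻¹ by group,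
      translation_twice hS hP hC1A (fun c hc => conj_of_mem ht hc) ht.2.2 hb, mul_inv_cancel]
    exact one_mem _
  have hle : RD ≤ W := by
    have he₁N := hEfix e₁ he₁
    have he₂N := hEfix e₂ he₂
    refine CfsgLib.Bender.le_of_four_centralizers hodd (hsq e₁ he₁ he₁N he₁Z) (hsq e₂ he₂ he₂N he₂Z)
      ?_ (fun h12 => ?_) ?_ ?_ ?_
    · rw [← map_mul, ← map_mul, ← mul_inv_eq_one, ← map_inv, ← map_mul, hπ1]
      have h1 := (mem_inf.1 he₁.1).2
      have h2 := (mem_inf.1 he₂.1).2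
      refine ⟨(mem_inf.1 (⟨e₁, he₁N⟩ * ⟨e₂, he₂N⟩ * (⟨e₂, he₂N⟩ * ⟨e₁, he₁N⟩)⁻¹ : ↥N₀).2).1,
        (mem_inf.1 (⟨e₁, he₁N⟩ * ⟨e₂, he₂N⟩ * (⟨e₂, he₂N⟩ * ⟨e₁, he₁N⟩)⁻¹ : ↥N₀).2).2, fun b hb => ?_⟩
      have hfix : ∀ b ∈ A, (e₁ * e₂ * (e₂ * e₁)⁻¹) * b * (e₁ * e₂ * (e₂ * e₁)⁻¹)⁻¹ = b := by
        intro b hb
        have hb' : (e₂ * e₁)⁻¹ * b * (e₂ * e₁) ∈ A :=
          (mem_normalizer_iff''.1 (mul_mem h2.1 h1.1) b).1 hb
        have e0 := lam_mul_left hS hP hC1A h1 h2 hb'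
        have e0' := lam_mul_left hS hP hC1A h2 h1 hb'
        rw [hS.comm (hC1A (h1.2.2 _ hb')) (hC1A (h2.2.2 _ hb')), ← e0'] at e0
        have e1 := mul_right_cancel e0
        calc _ = e₁ * e₂ * ((e₂ * e₁)⁻¹ * b * (e₂ * e₁)) * (e₁ * e₂)⁻¹ := by group
          _ = e₂ * e₁ * ((e₂ * e₁)⁻¹ * b * (e₂ * e₁)) * (e₂ * e₁)⁻¹ := e1
          _ = b := by group
      rw [show ((⟨e₁, he₁N⟩ * ⟨e₂, he₂N⟩ * (⟨e₂, he₂N⟩ * ⟨e₁, he₁N⟩)⁻¹ : ↥N₀) : G) =
        e₁ * e₂ * (e₂ * e₁)⁻¹ from rfl, hfix b hb, mul_inv_cancel]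
      exact one_mem _
    · rw [← inv_mul_eq_one, ← map_inv, ← map_mul, hπ1] at h12
      exact he₁₂ (mem_inf.2 ⟨mul_mem (inv_mem he₁.1) he₂.1, mem_centralizer_of_both hS hP hK hK₁ hne
        (mul_mem (inv_mem (mem_inf.1 he₁.1).2) (mem_inf.1 he₂.1).2) h12.2.2⟩)
    · exact le_normalizer_map π ⟨_, mem_normalizer_iff.2 fun w => by
        rw [mem_subgroupOf, mem_subgroupOf, Subgroup.coe_mul, Subgroup.coe_mul, Subgroup.coe_inv]
        conv_rhs => rw [← hED e₁ he₁]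
        exact ⟨fun hw => ⟨_, hw, rfl⟩, fun ⟨y, hy, e⟩ => by
          rwa [← mul_left_cancel (mul_right_cancel e)]⟩, rfl⟩
    · exact le_normalizer_map π ⟨_, mem_normalizer_iff.2 fun w => by
        rw [mem_subgroupOf, mem_subgroupOf, Subgroup.coe_mul, Subgroup.coe_mul, Subgroup.coe_inv]
        conv_rhs => rw [← hED e₂ he₂]
        exact ⟨fun hw => ⟨_, hw, rfl⟩, fun ⟨y, hy, e⟩ => by
          rwa [← mul_left_cancel (mul_right_cancel e)]⟩, rfl⟩
    intro x hx y hy hxy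
    obtain ⟨g, hg, rfl⟩ := hx
    obtain ⟨e, he, heZ, heN, rfl⟩ : ∃ e ∈ E, e ∉ Z ∧ ∃ heN : e ∈ N₀, y = π ⟨e, heN⟩ := by
      rcases hy with rfl | rfl | rfl
      · exact ⟨e₁, he₁, he₁Z, he₁N, rfl⟩
      · exact ⟨e₂, he₂, he₂Z, he₂N, rfl⟩
      · refine ⟨e₁ * e₂, mul_mem he₁ he₂, fun hz => he₁₂ ?_, mul_mem he₁N he₂N, (map_mul π _ _).symm⟩
        refine mem_inf.2 ⟨mul_mem (inv_mem he₁.1) he₂.1, mem_centralizer_iff.2 fun b hb => ?_⟩
        have ht := (mem_inf.1 he₁.1).2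
        have hb' : e₂ * b * e₂⁻¹ ∈ A := (mem_normalizer_iff.1 he₂N.1 b).1 hb
        have e3 := translation_twice hS hP hC1A (fun c hc => conj_of_mem ht hc) ht.2.2 hb'
        have e4 : e₁ * e₂ * b * (e₁ * e₂)⁻¹ = b := by
          rw [← mem_centralizer_iff.1 hz.2 b hb, mul_inv_cancel_right]
        have e5 : e₁ * b * e₁⁻¹ = e₂ * b * e₂⁻¹ := by
          calc e₁ * b * e₁⁻¹ = e₁ * (e₁ * e₂ * b * (e₁ * e₂)⁻¹) * e₁⁻¹ := by rw [e4]
            _ = e₁ * (e₁ * (e₂ * b * e₂⁻¹) * e₁⁻¹) * e₁⁻¹ := by group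
            _ = e₂ * b * e₂⁻¹ := e3
        have e6 : e₁⁻¹ * e₂ * b * (e₁⁻¹ * e₂)⁻¹ = b := by
          calc e₁⁻¹ * e₂ * b * (e₁⁻¹ * e₂)⁻¹ = e₁⁻¹ * (e₂ * b * e₂⁻¹) * e₁ := by group
            _ = b := by rw [← e5]; group
        exact (mul_inv_eq_iff_eq_mul.1 e6).symm
    refine ⟨g, mem_subgroupOf.2 ?_, rfl⟩
    -- `g` commutes with `e` modulo the translations
    have hgN : (g : G) ∈ N₀ := g.2
    have htC : e⁻¹ * (g : G) * e * (g : G)⁻¹ ∈ trivGroup A C := by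
      have := (hπ1 (⟨e, heN⟩⁻¹ * g * ⟨e, heN⟩ * g⁻¹)).1 (by
        rw [map_mul, map_mul, map_mul, map_inv, map_inv, mul_assoc (π ⟨e, heN⟩)⁻¹, hxy]
        group)
      exact this
    set t := e⁻¹ * (g : G) * e * (g : G)⁻¹ with ht
    have heE := (mem_inf.1 he.1).2
    have hin : L ≤ L.comap (MulAut.conj (g : G)).toMonoidHom := by
      refine sup_le (fun q hq => ?_) (fun c hc => ?_)
      · obtain ⟨b, hb, hbq⟩ := onto hS hP hK₁ heE
          (fun hc => heZ ⟨he.1, hc⟩) q hq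
        show (g : G) * q * (g : G)⁻¹ ∈ L
        set b' := (g : G) * b * (g : G)⁻¹ with hb'
        have hb'A : b' ∈ A := (mem_normalizer_iff.1 hgN.1 b).1 hb
        set z := t * b' * t⁻¹ * b'⁻¹ with hz
        have hzC : z ∈ C := htC.2.2 b' hb'A
        have hez : e * z * e⁻¹ = z := by
          rw [← mem_centralizer_iff.1 heN.2 z hzC, mul_inv_cancel_right]
        have e7 : (g : G) * q * (g : G)⁻¹ = e * z * e⁻¹ * (e * b' * e⁻¹ * b'⁻¹) := by
          rw [hz, ht, hb', ← hbq]; group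
        rw [e7, hez]
        exact mul_mem (mem_sup_right hzC) (mem_sup_left (heE.2.2 b' hb'A))
      · show (g : G) * c * (g : G)⁻¹ ∈ L
        rw [← mem_centralizer_iff.1 hgN.2 c hc, mul_inv_cancel_right]
        exact mem_sup_right hc
    exact mem_normalizer_fintype fun w hw => hin hw
  -- against the transitivity
  obtain ⟨ha₁, ha₁1⟩ := hP.mem h₁.1.1
  have ha₁C : a₁ ∉ C := fun hh => ha₁1 (mem_bot.1 (disjoint hS hP hK₁ hK hne ▸ mem_inf.2 ⟨ha₁, hh⟩))
  obtain ⟨b, hb, hbL⟩ : ∃ b ∈ A, b ∉ L := by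
    by_contra hall
    push Not at hall
    exact hsum (le_antisymm (sup_le hC1A hCA) fun w hw => hall w hw)
  obtain ⟨g, hg, hgb⟩ := hP.trans h.1.1 a₁ (hC1A ha₁) ha₁C b hb (fun hh => hbL (mem_sup_right hh))
  have hgW : π ⟨g, hP.le h.1.1 hg⟩ ∈ W := hle (mem_map_of_mem π (mem_subgroupOf.2 hg))
  obtain ⟨g', hg', hgg⟩ := hgW
  have htr := (hπ1 (g'⁻¹ * ⟨g, hP.le h.1.1 hg⟩)).1 (by rw [map_mul, map_inv, hgg, inv_mul_cancel])
  have h2 : (g' : G)⁻¹ * g * a₁ * ((g' : G)⁻¹ * g)⁻¹ ∈ L := by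
    have := mul_mem (mem_sup_right (htr.2.2 a₁ (hC1A ha₁)) : _ ∈ L) (mem_sup_left ha₁)
    simpa [mul_assoc] using this
  have h3 : g * a₁ * g⁻¹ ∈ L := by
    have := (mem_normalizer_iff.1 (mem_subgroupOf.1 hg') _).1 h2
    simpa [mul_assoc] using this
  refine hbL ?_
  have e : b = (g * a₁ * g⁻¹ * b⁻¹)⁻¹ * (g * a₁ * g⁻¹) := by group
  rw [e]
  exact mul_mem (inv_mem (mem_sup_right hgb)) h3

end CfsgLib.Invol.Goldschmidt.NoCover
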