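import Cfsg.Agent.Lib.Invol.Goldschmidt.Sections.Cover
import Cfsg.Agent.Lib.Invol.Goldschmidt.Dichotomy

/-!
Owner: helper1. S1169, the no-cover step: the covers with the smallest kernel.

* `MinCover.stable`: a smallest cover is the pair with its kernel at every element of the kernel.
* `MinCover.disjoint`: the smallest kernels meet trivially.
* `MinCover.covered`: the other smallest kernels cover `A` modulo one of them.
-/

set_option autoImplicit false
set_option linter.style.haveILetI false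
set_option linter.unusedSectionVars false

namespace CfsgLib.Invol.Goldschmidt.NoCover

open Subgroup
open scoped commutatorElement

universe u

variable {G : Type u} [Group G] [Finite G] {S : Sylow 2 G} {A : Subgroup G}
  {P : G → Subgroup G → Subgroup G → Prop} {D : G → Subgroup G → Subgroup G → Subgroup G}
  {a : G} {V C : Subgroup G}

/-- A pair whose members meet. -/
def IsCover (P : G → Subgroup G → Subgroup G → Prop) (a : G) (V C : Subgroup G) : Prop :=
  P a V C ∧ V ⊓ C ≠ ⊥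

/-- A cover with the smallest kernel. -/
def MinCover (P : G → Subgroup G → Subgroup G → Prop) (a : G) (V C : Subgroup G) : Prop :=
  IsCover P a V C ∧ ∀ a' V' C', IsCover P a' V' C' → Nat.card C ≤ Nat.card C'

/-- Some smallest cover has the kernel `C`. -/
def IsKernel (P : G → Subgroup G → Subgroup G → Prop) (C : Subgroup G) : Prop :=
  ∃ a V, MinCover P a V C

theorem exists_min (h : IsCover P a V C) : ∃ a' V' C', MinCover P a' V' C' := by
  classical
  have hne : ∃ n, ∃ a' V' C', IsCover P a' V' C' ∧ Nat.card C' = n := ⟨_, a, V, C, h, rfl⟩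
  obtain ⟨a', V', C', h', e⟩ := Nat.find_spec hne
  exact ⟨a', V', C', h', fun a'' V'' C'' h'' => e ▸ Nat.find_min' hne ⟨a'', V'', C'', h'', rfl⟩⟩

theorem conj_comm_of_mem {x b : G} {X : Subgroup G} (hS : Setting S A) (hX : X ≤ A) (hb : b ∈ A)
    (hx : x ∈ X) : x * b * x⁻¹ = b := by
  rw [hS.comm (hX hx) hb, mul_inv_cancel_right]

section

variable (hS : Setting S A) (hP : PreFacts A P D)
include hS hP

theorem le_left (h : P a V C) : V ≤ A := hP.sup h ▸ le_sup_left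

theorem le_right (h : P a V C) : C ≤ A := hP.sup h ▸ le_sup_right

theorem right_ne (h : P a V C) : C ≠ A := fun e => by
  have := hP.four h
  rw [e, relIndex_self] at this
  omega

theorem mem_normA (h : P a V C) {x : G} (hx : x ∈ D a V C) : x ∈ normalizer (A : Set G) :=
  (hP.le h hx).1

theorem conj_kernel (h : P a V C) {x : G} (hx : x ∈ D a V C) {c : G} (hc : c ∈ C) :
    x * c * x⁻¹ = c := by
  rw [← mem_centralizer_iff.1 (hP.le h hx).2 c hc, mul_inv_cancel_right]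

/-- The commutator of an element of `A` with an element of `D` lies in `V`. -/
theorem comm_mem_left (h : P a V C) {x b : G} (hx : x ∈ D a V C) (hb : b ∈ A) :
    x * b * x⁻¹ * b⁻¹ ∈ V := by
  rw [hP.span h, commutator_comm A]
  exact commutator_mem_commutator hx hb

/-- An element inducing a translation acts as an involution. -/
theorem translation_twice {x : G} (hC : C ≤ A)
    (hxc : ∀ c ∈ C, x * c * x⁻¹ = c) (ht : TrivMod A C x) {b : G} (hb : b ∈ A) :
    x * (x * b * x⁻¹) * x⁻¹ = b := by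
  set c := x * b * x⁻¹ * b⁻¹ with hc
  have hcC : c ∈ C := ht b hb
  have e : x * b * x⁻¹ = c * b := by rw [hc]; group
  calc x * (x * b * x⁻¹) * x⁻¹ = x * (c * b) * x⁻¹ := by rw [e]
    _ = (x * c * x⁻¹) * (x * b * x⁻¹) := by group
    _ = c * (c * b) := by rw [hxc c hcC, e]
    _ = b := by rw [← mul_assoc, hS.sq (hC hcC), one_mul]

theorem pow_odd {x : G} (h2 : ∀ b ∈ A, x * (x * b * x⁻¹) * x⁻¹ = b)
    (hx : x ∈ normalizer (A : Set G)) (m : ℕ) {b : G} (hb : b ∈ A) :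
    x ^ (2 * m + 1) * b * (x ^ (2 * m + 1))⁻¹ = x * b * x⁻¹ := by
  induction m with
  | zero => simp
  | succ m ih =>
    have e : x ^ (2 * (m + 1) + 1) = x * x * x ^ (2 * m + 1) := by
      rw [show 2 * (m + 1) + 1 = 2 + (2 * m + 1) by ring, pow_add, pow_two]
    calc x ^ (2 * (m + 1) + 1) * b * (x ^ (2 * (m + 1) + 1))⁻¹
        = x * (x * (x ^ (2 * m + 1) * b * (x ^ (2 * m + 1))⁻¹) * x⁻¹) * x⁻¹ := by rw [e]; group
      _ = x * b * x⁻¹ := by rw [ih]; exact h2 _ ((mem_normalizer_iff.1 hx b).1 hb)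

/-- A cover gives a cover at every element of its kernel, with a smaller kernel. -/
theorem IsCover.pump (h : IsCover P a V C) {u : G} (hu : u ∈ C) (hu1 : u ≠ 1) :
    ∃ V' C', IsCover P u V' C' ∧ V ≤ V' ∧ C' ≤ C := by
  obtain ⟨V', C', h', hV, hC, hD⟩ := hP.pump h.1 hu hu1
  refine ⟨V', C', ⟨h', fun e => ?_⟩, hV, hC⟩
  obtain ⟨x, hx, ht, hxA⟩ := hP.transl h.1 h.2
  obtain ⟨x', hx', hact⟩ := hD x hx
  have h2 : ∀ b ∈ A, x' * (x' * b * x'⁻¹) * x'⁻¹ = b := fun b hb => by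
    rw [← hact b hb, ← hact _ ((mem_normalizer_iff.1 (mem_normA hS hP h.1 hx) b).1 hb)]
    exact translation_twice hS hP (le_right hS hP h.1)
      (fun c hc => conj_kernel hS hP h.1 hx hc) ht hb
  obtain ⟨n, ⟨m, rfl⟩, hn⟩ := hP.odd h' x' hx'
  refine hxA (mem_centralizer_iff.2 fun b hb => ?_)
  have h1 : x * b * x⁻¹ * b⁻¹ ∈ C' := by
    have := hn b hb
    rwa [pow_odd hS hP h2 (mem_normA hS hP h' hx') m hb, ← hact b hb] at this
  have h3 : x * b * x⁻¹ * b⁻¹ ∈ V' ⊓ C' := ⟨hV (comm_mem_left hS hP h.1 hx hb), h1⟩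
  rw [e, mem_bot, mul_inv_eq_one, mul_inv_eq_iff_eq_mul] at h3
  exact h3.symm

namespace MinCover

theorem stable (h : MinCover P a V C) {u : G} (hu : u ∈ C) (hu1 : u ≠ 1) : MinCover P u V C := by
  have key : ∀ {a : G} {V : Subgroup G}, MinCover P a V C → ∀ {u : G}, u ∈ C → u ≠ 1 →
      ∃ V', MinCover P u V' C ∧ V ≤ V' := by
    intro a V h u hu hu1
    obtain ⟨V', C', h', hV, hC⟩ := IsCover.pump hS hP h.1 hu hu1
    obtain rfl : C' = C := eq_of_le_of_card_ge hC (h.2 _ _ _ h')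
    exact ⟨V', ⟨h', h.2⟩, hV⟩
  obtain ⟨ha, ha1⟩ := hP.mem h.1.1
  obtain ⟨V', h', hV⟩ := key h hu hu1
  obtain ⟨V'', h'', hV'⟩ := key h' ha ha1
  rcases hP.same h.1.1 h''.1.1 with ⟨e, -⟩ | ⟨e, -⟩
  · obtain rfl : V = V' := le_antisymm hV (e ▸ hV')
    exact h'
  · exact absurd ((hP.sup h''.1.1).symm.trans (sup_eq_right.2 e)).symm (right_ne hS hP h.1.1)

theorem conj (h : MinCover P a V C) {n : G} (hn : n ∈ normalizer (A : Set G)) :
    MinCover P (n * a * n⁻¹) (cj n V) (cj n C) := by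
  refine ⟨⟨(hP.conj h.1.1 n hn).1, fun e => h.1.2 ?_⟩, fun a' V' C' h' => ?_⟩
  · refine eq_bot_of_card_eq _ ?_
    rw [← cj_card n (V ⊓ C), show cj n (V ⊓ C) = cj n V ⊓ cj n C from
      Subgroup.map_inf _ _ _ (MulAut.conj n).injective, e, card_bot]
  · rw [cj_card]; exact h.2 a' V' C' h'

end MinCover

theorem IsKernel.le (h : IsKernel P C) : C ≤ A := by
  obtain ⟨a, V, h⟩ := h
  exact le_right hS hP h.1.1

theorem IsKernel.card_eq {C' : Subgroup G} (h : IsKernel P C) (h' : IsKernel P C') :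
    Nat.card C = Nat.card C' := by
  obtain ⟨a, V, h⟩ := h
  obtain ⟨a', V', h'⟩ := h'
  exact le_antisymm (h.2 _ _ _ h'.1) (h'.2 _ _ _ h.1)

theorem IsKernel.conj (h : IsKernel P C) {n : G} (hn : n ∈ normalizer (A : Set G)) :
    IsKernel P (cj n C) := by
  obtain ⟨a, V, h⟩ := h
  exact ⟨_, _, MinCover.conj hS hP h hn⟩

/-- Two kernels which meet. -/
theorem MinCover.le_of_meet (h : MinCover P a V C) {C' : Subgroup G} (hC' : IsKernel P C')
    (hne : C ≠ C') (hm : C ⊓ C' ≠ ⊥) : V ≤ C' := by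
  obtain ⟨a', V', h'⟩ := hC'
  obtain ⟨u, ⟨hu, hu'⟩, hu1⟩ := (bot_or_exists_ne_one _).resolve_left hm
  rcases hP.same (MinCover.stable hS hP h hu hu1).1.1 (MinCover.stable hS hP h' hu' hu1).1.1 with
    ⟨-, e⟩ | ⟨-, e⟩
  · exact absurd e hne
  · exact e

/-- Two kernels meet trivially. -/
theorem disjoint {C' : Subgroup G} (hC : IsKernel P C) (hC' : IsKernel P C') (hne : C ≠ C') :
    C ⊓ C' = ⊥ := by
  by_contra hm
  obtain ⟨a, V, h⟩ := id hC
  have hV := MinCover.le_of_meet hS hP h hC' hne hm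
  have hVA := le_left hS hP h.1.1
  have hn : V ≤ normalizer (C : Set G) := fun v hv => mem_normalizer_iff.2 fun y => by
    constructor
    · intro hy
      rwa [conj_comm_of_mem hS hVA (le_right hS hP h.1.1 hy) hv]
    · intro hy
      have e : y = v⁻¹ * (v * y * v⁻¹) * v⁻¹⁻¹ := by group
      rw [e, conj_comm_of_mem hS hVA (le_right hS hP h.1.1 hy) (inv_mem hv)]
      exact hy
  have hcard := CfsgLib.Core.card_sup_mul_card_inf V C hn
  rw [hP.sup h.1.1] at hcard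
  have h2 : 2 ≤ Nat.card ↥(V ⊓ C) := by
    have := Nat.card_pos (α := ↥(V ⊓ C))
    by_contra hlt
    exact h.1.2 (eq_bot_of_card_eq _ (by omega))
  have hle : Nat.card V ≤ Nat.card C := IsKernel.card_eq hS hP hC hC' ▸ card_le_of_le hV
  -- two kernels which meet trivially
  obtain ⟨C₁, C₂, hC₁, hC₂, h12, hd⟩ : ∃ C₁ C₂, IsKernel P C₁ ∧ IsKernel P C₂ ∧ C₁ ≠ C₂ ∧
      C₁ ⊓ C₂ = ⊥ := by
    by_contra hall
    push Not at hall
    set I : Subgroup G := sInf {X | IsKernel P X} with hI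
    have hIC : I ≤ C := sInf_le hC
    have hinv : ∀ g ∈ normalizer (A : Set G), cj g I = I := fun g hg => by
      refine eq_of_le_of_card_ge ?_ (cj_card g I).ge
      refine le_sInf fun X hX => ?_
      have := sInf_le (a := cj g⁻¹ X) (s := {X | IsKernel P X}) (IsKernel.conj hS hP hX (inv_mem hg))
      exact (Subgroup.map_mono this).trans (cj_inv_cancel g X).le
    rcases hS.irred I (hIC.trans (le_right hS hP h.1.1)) hinv with e | e
    · refine h.1.2 ((eq_bot_iff).2 (e ▸ le_sInf fun X hX => ?_))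
      by_cases hX' : C = X
      · exact hX' ▸ inf_le_right
      · exact inf_le_left.trans (MinCover.le_of_meet hS hP h hX hX' (hall C X hC hX hX'))
    · exact right_ne hS hP h.1.1 (le_antisymm (le_right hS hP h.1.1) (e ▸ hIC))
  have hsum := card_le_of_le (sup_le (IsKernel.le hS hP hC₁) (IsKernel.le hS hP hC₂) : C₁ ⊔ C₂ ≤ A)
  rw [card_sup_of_disjoint hS (IsKernel.le hS hP hC₁) (IsKernel.le hS hP hC₂) hd,
    IsKernel.card_eq hS hP hC₁ hC, IsKernel.card_eq hS hP hC₂ hC] at hsum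
  have h3 : Nat.card V * Nat.card C ≤ Nat.card C * Nat.card C := Nat.mul_le_mul_right _ hle
  have h4 : Nat.card A * 2 ≤ Nat.card V * Nat.card C := hcard ▸ Nat.mul_le_mul_left _ h2
  have h5 := Nat.card_pos (α := A)
  omega

/-- Every smallest kernel has another. -/
theorem exists_other (hC : IsKernel P C) : ∃ C', IsKernel P C' ∧ C' ≠ C := by
  by_contra hall
  push Not at hall
  have hinv : ∀ g ∈ normalizer (A : Set G), cj g C = C := fun g hg =>
    hall _ (IsKernel.conj hS hP hC hg)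
  obtain ⟨a, V, h⟩ := id hC
  rcases hS.irred C (le_right hS hP h.1.1) hinv with e | e
  · obtain ⟨ha, ha1⟩ := hP.mem h.1.1
    rw [e, mem_bot] at ha
    exact ha1 ha
  · exact right_ne hS hP h.1.1 e

/-- The other kernels cover `A` modulo one of them. -/
theorem covered (hC : IsKernel P C) {b : G} (hb : b ∈ A) (hbC : b ∉ C) :
    ∃ C₁, IsKernel P C₁ ∧ C₁ ≠ C ∧ ∃ q ∈ C₁, ∃ c ∈ C, q ≠ 1 ∧ b = q * c := by
  obtain ⟨C₂, hC₂, hne⟩ := exists_other hS hP hC
  obtain ⟨a₂, V₂, h₂⟩ := id hC₂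
  obtain ⟨hp, hp1⟩ := hP.mem h₂.1.1
  have hpC : a₂ ∉ C := fun hpC => hp1 (mem_bot.1 (disjoint hS hP hC₂ hC hne ▸ mem_inf.2 ⟨hp, hpC⟩))
  obtain ⟨a, V, h⟩ := id hC
  obtain ⟨g, hg, hgb⟩ := hP.trans h.1.1 a₂ (IsKernel.le hS hP hC₂ hp) hpC b hb hbC
  have hgN := mem_normA hS hP h.1.1 hg
  have hq : g * a₂ * g⁻¹ ∈ cj g C₂ := ⟨a₂, hp, rfl⟩
  have hqA : g * a₂ * g⁻¹ ∈ A := (mem_normalizer_iff.1 hgN _).1 (IsKernel.le hS hP hC₂ hp)
  have hqC : g * a₂ * g⁻¹ ∉ C := fun h' => hpC (by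
    have := conj_kernel hS hP h.1.1 (inv_mem hg) h'
    rw [inv_inv, show g⁻¹ * (g * a₂ * g⁻¹) * g = a₂ by group] at this
    rwa [this])
  refine ⟨cj g C₂, IsKernel.conj hS hP hC₂ hgN, fun e => hqC (e ▸ hq), _, hq, _, inv_mem hgb,
    fun e => hqC (e ▸ one_mem C), ?_⟩
  rw [mul_inv_rev, inv_inv, hS.comm hb (inv_mem hqA), mul_inv_cancel_left]

/-- An element fixing a point of a kernel fixes the kernel. -/
theorem cj_eq_of_fix {C₁ : Subgroup G} (h₁ : IsKernel P C₁) {x : G} (hx : x ∈ normalizer (A : Set G))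
    {p : G} (hp : p ∈ C₁) (hp1 : p ≠ 1) (hfix : x * p * x⁻¹ = p) : cj x C₁ = C₁ := by
  by_contra hne
  refine hp1 (mem_bot.1 (disjoint hS hP (IsKernel.conj hS hP h₁ hx) h₁ hne ▸ mem_inf.2 ⟨?_, hp⟩))
  exact hfix ▸ ⟨p, hp, rfl⟩

/-- A translation fixing a point of another kernel centralises it. -/
theorem fix_member (hC : IsKernel P C) {C₁ : Subgroup G} (h₁ : IsKernel P C₁) (hne : C₁ ≠ C) {x : G}
    (hx : x ∈ normalizer (A : Set G)) (ht : TrivMod A C x) {p : G} (hp : p ∈ C₁) (hp1 : p ≠ 1)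
    (hfix : x * p * x⁻¹ = p) {q : G} (hq : q ∈ C₁) : x * q * x⁻¹ = q := by
  have he := cj_eq_of_fix hS hP h₁ hx hp hp1 hfix
  have h1 : x * q * x⁻¹ * q⁻¹ ∈ C₁ := mul_mem (he.le ⟨q, hq, rfl⟩) (inv_mem hq)
  have h2 : x * q * x⁻¹ * q⁻¹ ∈ C₁ ⊓ C := ⟨h1, ht q (IsKernel.le hS hP h₁ hq)⟩
  rw [disjoint hS hP h₁ hC hne, mem_bot, mul_inv_eq_one] at h2
  exact h2

end

end CfsgLib.Invol.Goldschmidt.NoCover
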